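import Groth.Agent.UnramA.FlatUnramReduced
import Groth.Agent.Ega1.LimitSystem
import Mathlib.RingTheory.Unramified.LocalRing
import Mathlib.RingTheory.Unramified.Field
import Mathlib.RingTheory.Unramified.Finite
import Mathlib.RingTheory.Artinian.Module
import Mathlib.RingTheory.SimpleModule.Basic
import Mathlib.RingTheory.Etale.Descent
import Mathlib.RingTheory.Localization.Away.Basic
import Mathlib.RingTheory.Localization.Away.Lemmas
import Mathlib.RingTheory.RingHom.Etale
import Mathlib.RingTheory.Nakayama
import Mathlib.RingTheory.Flat.FaithfullyFlat.Basic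

/-!
Étale algebras and completion in height one: the algebraic part.
-/

set_option autoImplicit false
universe u
open scoped TensorProduct

namespace K87.CompleteEtale

set_option backward.inferInstanceAs.wrap.data false in
/-- An unramified finite type algebra over a local ring whose maximal ideal is nil modulo `a` is
finite modulo `a`. -/
theorem finite_quot_of_nil {A R : Type*} [CommRing A] [IsLocalRing A] [CommRing R] [Algebra A R]
    [Algebra.FiniteType A R] [Algebra.FormallyUnramified A R] (a : A)
    (hnil : ∀ x ∈ IsLocalRing.maximalIdeal A, ∃ n : ℕ, a ∣ x ^ n) :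
    Module.Finite A (R ⧸ (Ideal.span {a}).map (algebraMap A R)) := by
  let mR := (IsLocalRing.maximalIdeal A).map (algebraMap A R)
  let _ : Algebra (IsLocalRing.ResidueField A) (R ⧸ mR) :=
    (inferInstanceAs <| Algebra (A ⧸ _) _)
  have : IsScalarTower A (IsLocalRing.ResidueField A) (R ⧸ mR) :=
    (inferInstanceAs <| IsScalarTower A (A ⧸ _) _)
  have : Algebra.FormallyUnramified (IsLocalRing.ResidueField A) (R ⧸ mR) :=
    .of_restrictScalars A _ _
  have : Algebra.EssFiniteType (IsLocalRing.ResidueField A) (R ⧸ mR) := .of_comp A _ _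
  have : Module.Finite (IsLocalRing.ResidueField A) (R ⧸ mR) :=
    Algebra.FormallyUnramified.finite_of_free _ _
  have hfin : Module.Finite A (R ⧸ mR) := Module.Finite.trans (IsLocalRing.ResidueField A) _
  have hnil' : mR ≤ ((Ideal.span {a}).map (algebraMap A R)).radical := by
    rw [Ideal.map_le_iff_le_comap]
    intro x hx
    obtain ⟨n, c, hc⟩ := hnil x hx
    rw [Ideal.mem_comap]
    refine ⟨n, ?_⟩
    rw [← map_pow, hc]
    exact Ideal.mem_map_of_mem _ (Ideal.mul_mem_right _ _ (Ideal.mem_span_singleton_self a))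
  have hint : Algebra.IsIntegral A (R ⧸ (Ideal.span {a}).map (algebraMap A R)) := by
    constructor
    intro z
    obtain ⟨y, rfl⟩ := Ideal.Quotient.mk_surjective z
    obtain ⟨p, hp, hpy⟩ := Algebra.IsIntegral.isIntegral (R := A) (Ideal.Quotient.mk mR y)
    have h1 : Polynomial.aeval y p ∈ mR := by
      rw [← Ideal.Quotient.eq_zero_iff_mem]
      rw [← hpy, Polynomial.aeval_def, Polynomial.hom_eval₂]
      rfl
    obtain ⟨N, hN⟩ := hnil' h1
    refine ⟨p ^ N, hp.pow N, ?_⟩
    rw [← map_pow] at hN
    have h2 := Ideal.Quotient.eq_zero_iff_mem.2 hN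
    rw [← h2, Polynomial.aeval_def, Polynomial.hom_eval₂]
    rfl
  exact Algebra.IsIntegral.finite

section Core

variable {A B A' B' : Type u} [CommRing A] [CommRing B] [CommRing A'] [CommRing B']
  [Algebra A B] [Algebra A A'] [Algebra A' B'] [Algebra B B'] [Algebra A B']
  [IsScalarTower A A' B'] [IsScalarTower A B B']

variable (A B A' B') in
/-- The comparison map. -/
noncomputable def π : A' ⊗[A] B →ₐ[A'] B' :=
  Algebra.TensorProduct.lift (Algebra.ofId A' B') (IsScalarTower.toAlgHom A B B')
    (fun _ _ => mul_comm _ _)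

theorem π_tmul (x : A') (b : B) :
    π A B A' B' (x ⊗ₜ b) = algebraMap A' B' x * algebraMap B B' b := by
  simp [π, Algebra.ofId_apply]

theorem decomp (a : A)
    (hd1 : ∀ x : A', ∃ (y : A) (z : A'), x = algebraMap A A' y + algebraMap A A' a * z)
    (d : A' ⊗[A] B) : ∃ (b : B) (d' : A' ⊗[A] B),
      d = (1 : A') ⊗ₜ b + algebraMap A A' a • d' := by
  induction d using TensorProduct.induction_on with
  | zero => exact ⟨0, 0, by simp⟩
  | tmul x b =>
    obtain ⟨y, z, rfl⟩ := hd1 x
    refine ⟨y • b, z ⊗ₜ b, ?_⟩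
    rw [TensorProduct.add_tmul, TensorProduct.smul_tmul', smul_eq_mul, TensorProduct.tmul_smul,
      TensorProduct.smul_tmul', Algebra.smul_def, mul_one]
  | add d₁ d₂ h₁ h₂ =>
    obtain ⟨b₁, d₁', rfl⟩ := h₁
    obtain ⟨b₂, d₂', rfl⟩ := h₂
    refine ⟨b₁ + b₂, d₁' + d₂', ?_⟩
    rw [TensorProduct.tmul_add, smul_add]
    abel

theorem ker_divisible (a : A)
    (hd1 : ∀ x : A', ∃ (y : A) (z : A'), x = algebraMap A A' y + algebraMap A A' a * z)
    (hc : ∀ (y : B) (z : B'), algebraMap B B' y = algebraMap A B' a * z →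
      ∃ y' : B, y = algebraMap A B a * y')
    (ha : ∀ z : B', algebraMap A B' a * z = 0 → z = 0)
    (d : A' ⊗[A] B) (hd : π A B A' B' d = 0) :
    ∃ d' : A' ⊗[A] B, π A B A' B' d' = 0 ∧ d = algebraMap A A' a • d' := by
  obtain ⟨b, d₁, rfl⟩ := decomp a hd1 d
  rw [map_add, π_tmul, map_one, one_mul, map_smul, Algebra.smul_def,
    ← IsScalarTower.algebraMap_apply] at hd
  have h1 : algebraMap B B' b = algebraMap A B' a * (- π A B A' B' d₁) := by
    rw [mul_neg]
    exact eq_neg_of_add_eq_zero_left hd
  obtain ⟨b', hb'⟩ := hc b _ h1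
  have h2 : (1 : A') ⊗ₜ[A] b = algebraMap A A' a • ((1 : A') ⊗ₜ[A] b') := by
    rw [hb', ← Algebra.smul_def, TensorProduct.tmul_smul, algebraMap_smul]
  refine ⟨(1 : A') ⊗ₜ b' + d₁, ?_, by rw [h2, smul_add]⟩
  apply ha
  rw [map_add, mul_add, π_tmul, map_one, one_mul, IsScalarTower.algebraMap_apply A B B',
    ← map_mul, ← hb', ← IsScalarTower.algebraMap_apply A B B']
  exact hd

theorem ker_divisible_pow (a : A)
    (hd1 : ∀ x : A', ∃ (y : A) (z : A'), x = algebraMap A A' y + algebraMap A A' a * z)
    (hc : ∀ (y : B) (z : B'), algebraMap B B' y = algebraMap A B' a * z →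
      ∃ y' : B, y = algebraMap A B a * y')
    (ha : ∀ z : B', algebraMap A B' a * z = 0 → z = 0) (n : ℕ) :
    ∀ (d : A' ⊗[A] B) (_ : π A B A' B' d = 0),
    ∃ d' : A' ⊗[A] B, π A B A' B' d' = 0 ∧ d = (algebraMap A A' a) ^ n • d' := by
  induction n with
  | zero => intro d hd; exact ⟨d, hd, by simp⟩
  | succ n ih =>
    intro d hd
    obtain ⟨d₁, h₁, rfl⟩ := ih d hd
    obtain ⟨d₂, h₂, rfl⟩ := ker_divisible a hd1 hc ha d₁ h₁
    exact ⟨d₂, h₂, by rw [smul_smul, pow_succ]⟩

theorem π_surjective [IsLocalRing A'] (a : A)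
    (haJ : algebraMap A A' a ∈ IsLocalRing.maximalIdeal A')
    [Module.Finite A' B']
    (hd2 : ∀ x : B', ∃ (y : B) (z : B'), x = algebraMap B B' y + algebraMap A B' a * z) :
    Function.Surjective (π A B A' B') := by
  have h1 : (⊤ : Submodule A' B') ≤ LinearMap.range (π A B A' B').toLinearMap := by
    apply Submodule.le_of_le_smul_of_le_jacobson_bot (I := IsLocalRing.maximalIdeal A')
      Module.Finite.fg_top (IsLocalRing.jacobson_eq_maximalIdeal _ bot_ne_top).ge
    intro x _
    obtain ⟨y, z, rfl⟩ := hd2 x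
    apply Submodule.add_mem_sup
    · exact ⟨(1 : A') ⊗ₜ y, by
        rw [AlgHom.toLinearMap_apply, π_tmul, map_one, one_mul]⟩
    · rw [IsScalarTower.algebraMap_apply A A' B', ← Algebra.smul_def]
      exact Submodule.smul_mem_smul haJ trivial
  intro x
  exact h1 (x := x) trivial

/-- The kernel is generated by an idempotent. -/
theorem exists_idempotent [IsDomain A'] [Module.Flat A B] (a : A)
    (hd1 : ∀ x : A', ∃ (y : A) (z : A'), x = algebraMap A A' y + algebraMap A A' a * z)
    (hc : ∀ (y : B) (z : B'), algebraMap B B' y = algebraMap A B' a * z →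
      ∃ y' : B, y = algebraMap A B a * y')
    (ha : ∀ z : B', algebraMap A B' a * z = 0 → z = 0)
    (K' : Type u) [Field K'] [Algebra A' K'] [Algebra A K'] [IsScalarTower A A' K']
    [IsLocalization.Away (algebraMap A A' a) K'] (hinj : Function.Injective (algebraMap A' K'))
    [IsSemisimpleRing (K' ⊗[A] B)] :
    ∃ e : A' ⊗[A] B, IsIdempotentElem e ∧ RingHom.ker (π A B A' B') = Ideal.span {e} ∧
      Function.Injective (Algebra.TensorProduct.map (IsScalarTower.toAlgHom A A' K')
        (AlgHom.id A B)) ∧
      ∀ x : K' ⊗[A] B, ∃ d ∈ RingHom.ker (π A B A' B'),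
        Algebra.TensorProduct.map (IsScalarTower.toAlgHom A A' K') (AlgHom.id A B) e * x =
        Algebra.TensorProduct.map (IsScalarTower.toAlgHom A A' K') (AlgHom.id A B) d := by
  set φ := Algebra.TensorProduct.map (IsScalarTower.toAlgHom A A' K') (AlgHom.id A B) with hφ
  have hφinj : Function.Injective φ := by
    have : Function.Injective (LinearMap.rTensor B
        ((IsScalarTower.toAlgHom A A' K').toLinearMap)) :=
      Module.Flat.rTensor_preserves_injective_linearMap _ hinj
    exact this
  have hden : ∀ x : K' ⊗[A] B, ∃ (n : ℕ) (d : A' ⊗[A] B),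
      φ (((algebraMap A A' a) ^ n) ⊗ₜ 1) * x = φ d := by
    intro x
    induction x using TensorProduct.induction_on with
    | zero => exact ⟨0, 0, by simp⟩
    | tmul x b =>
      obtain ⟨n, y, hy⟩ := IsLocalization.Away.surj (algebraMap A A' a) x
      refine ⟨n, y ⊗ₜ b, ?_⟩
      rw [hφ, Algebra.TensorProduct.map_tmul, Algebra.TensorProduct.map_tmul,
        Algebra.TensorProduct.tmul_mul_tmul, map_one, one_mul, AlgHom.id_apply]
      congr 1
      rw [IsScalarTower.coe_toAlgHom', map_pow, mul_comm]
      exact hy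
    | add x y hx hy =>
      obtain ⟨n, d, hd⟩ := hx
      obtain ⟨m, d', hd'⟩ := hy
      refine ⟨n + m, (((algebraMap A A' a) ^ m) ⊗ₜ 1) * d + (((algebraMap A A' a) ^ n) ⊗ₜ 1) * d',
        ?_⟩
      rw [map_add, map_mul, map_mul, ← hd, ← hd', ← mul_assoc, ← mul_assoc, ← map_mul, ← map_mul,
        Algebra.TensorProduct.tmul_mul_tmul, Algebra.TensorProduct.tmul_mul_tmul, one_mul,
        ← pow_add, ← pow_add, add_comm m n, mul_add]
  let J : Ideal (K' ⊗[A] B) :=
    { carrier := {x | ∃ d ∈ RingHom.ker (π A B A' B'), φ d = x}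
      add_mem' := by
        rintro _ _ ⟨d, hd, rfl⟩ ⟨d', hd', rfl⟩
        exact ⟨d + d', Ideal.add_mem _ hd hd', by rw [map_add]⟩
      zero_mem' := ⟨0, Ideal.zero_mem _, by rw [map_zero]⟩
      smul_mem' := by
        rintro c _ ⟨d, hd, rfl⟩
        obtain ⟨n, c', hc'⟩ := hden c
        obtain ⟨d', hd', rfl⟩ := ker_divisible_pow a hd1 hc ha n d (by simpa using hd)
        refine ⟨c' * d', Ideal.mul_mem_left _ _ (by simpa using hd'), ?_⟩
        have h1 : (algebraMap A A' a) ^ n • d' = (((algebraMap A A' a) ^ n) ⊗ₜ 1) * d' := by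
          rw [Algebra.smul_def]
          rfl
        rw [h1, map_mul, map_mul, ← hc', smul_eq_mul]
        ring }
  obtain ⟨e', he', hJ⟩ := IsSemisimpleRing.ideal_eq_span_idempotent J
  have heJ : e' ∈ J := by rw [hJ]; exact Ideal.mem_span_singleton_self _
  obtain ⟨e, he, hee⟩ := heJ
  have hidem : IsIdempotentElem e := by
    apply hφinj
    rw [map_mul, hee]
    exact he'
  refine ⟨e, hidem, ?_, hφinj, ?_⟩
  · apply le_antisymm
    · intro z hz
      have h1 : φ z ∈ J := ⟨z, hz, rfl⟩
      rw [hJ, Ideal.mem_span_singleton] at h1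
      obtain ⟨c, hc⟩ := h1
      rw [Ideal.mem_span_singleton]
      refine ⟨z, ?_⟩
      apply hφinj
      rw [map_mul, hee, hc, ← mul_assoc]
      rw [show e' * e' = e' from he']
    · rw [Ideal.span_singleton_le_iff_mem]
      exact he
  · intro x
    have h1 : φ e * x ∈ J := J.mul_mem_right x ⟨e, he, rfl⟩
    obtain ⟨d, hd, hd'⟩ := h1
    exact ⟨d, hd, hd'.symm⟩

/-- An étale algebra over a field is semisimple. -/
theorem isSemisimpleRing_of_etale (K E : Type u) [Field K] [CommRing E] [Algebra K E]
    [Algebra.Etale K E] : IsSemisimpleRing E := by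
  have hfin : Module.Finite K E := Algebra.FormallyUnramified.finite_of_free K E
  have hred : IsReduced E := Algebra.FormallyUnramified.isReduced_of_field K E
  have hart : IsArtinianRing E := IsArtinianRing.of_finite K E
  exact IsArtinianRing.isSemisimpleRing_of_isReduced E

theorem finite_of_surj (a : A)
    [Module.Finite A' ((A' ⊗[A] B) ⧸ (Ideal.span {algebraMap A A' a}).map
      (algebraMap A' (A' ⊗[A] B)))]
    (hd2 : ∀ x : B', ∃ (y : B) (z : B'), x = algebraMap B B' y + algebraMap A B' a * z) :
    Module.Finite A' (B' ⧸ (Ideal.span {algebraMap A A' a} • ⊤ : Submodule A' B')) := by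
  let I : Ideal A' := Ideal.span {algebraMap A A' a}
  let f : (A' ⊗[A] B) →ₗ[A'] B' ⧸ (I • ⊤ : Submodule A' B') :=
    (Submodule.mkQ _) ∘ₗ (π A B A' B').toLinearMap
  have hf : Function.Surjective f := by
    intro x
    obtain ⟨x, rfl⟩ := Submodule.mkQ_surjective _ x
    obtain ⟨y, z, rfl⟩ := hd2 x
    refine ⟨1 ⊗ₜ y, ?_⟩
    change Submodule.mkQ _ (π A B A' B' (1 ⊗ₜ y)) = _
    rw [π_tmul, map_one, one_mul, map_add, left_eq_add, Submodule.mkQ_apply,
      Submodule.Quotient.mk_eq_zero, IsScalarTower.algebraMap_apply A A' B', ← Algebra.smul_def]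
    exact Submodule.smul_mem_smul (Ideal.mem_span_singleton_self _) trivial
  let N : Submodule A' (A' ⊗[A] B) := (I.map (algebraMap A' (A' ⊗[A] B))).restrictScalars A'
  have hN : N ≤ LinearMap.ker f := by
    intro x hx
    have hx' : x ∈ (I • ⊤ : Submodule A' (A' ⊗[A] B)) := by
      rw [Ideal.smul_top_eq_map]
      exact hx
    rw [LinearMap.mem_ker]
    refine Submodule.smul_induction_on hx' ?_ ?_
    · intro r hr n _
      rw [map_smul]
      obtain ⟨n', hn'⟩ := Submodule.mkQ_surjective _ (f n)
      rw [← hn', ← map_smul, Submodule.mkQ_apply, Submodule.Quotient.mk_eq_zero]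
      exact Submodule.smul_mem_smul hr trivial
    · intro x y hx hy
      rw [map_add, hx, hy, add_zero]
  have h1 : Module.Finite A' ((A' ⊗[A] B) ⧸ N) :=
    Module.Finite.equiv (Submodule.Quotient.restrictScalarsEquiv A'
      (I.map (algebraMap A' (A' ⊗[A] B)))).symm
  refine Module.Finite.of_surjective (N.liftQ f hN) ?_
  intro x
  obtain ⟨y, rfl⟩ := hf x
  exact ⟨Submodule.mkQ _ y, by simp⟩

theorem isLocalization_away_of_surjective {D B' : Type u} [CommRing D] [CommRing B'] [Algebra D B']
    (hs : Function.Surjective (algebraMap D B')) (e : D) (he : IsIdempotentElem e)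
    (hk : RingHom.ker (algebraMap D B') = Ideal.span {e}) :
    IsLocalization.Away (1 - e) B' :=
  IsLocalization.away_of_isIdempotentElem he.one_sub (by rw [hk, sub_sub_cancel]) hs

/-- The forward direction. -/
theorem forward [IsDomain A'] [IsLocalRing A'] (a : A)
    (hd1 : ∀ x : A', ∃ (y : A) (z : A'), x = algebraMap A A' y + algebraMap A A' a * z)
    (hd2 : ∀ x : B', ∃ (y : B) (z : B'), x = algebraMap B B' y + algebraMap A B' a * z)
    (hc : ∀ (y : B) (z : B'), algebraMap B B' y = algebraMap A B' a * z →
      ∃ y' : B, y = algebraMap A B a * y')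
    (ha : ∀ z : B', algebraMap A B' a * z = 0 → z = 0)
    (haJ : algebraMap A A' a ∈ IsLocalRing.maximalIdeal A')
    (hnil : ∀ x ∈ IsLocalRing.maximalIdeal A', ∃ n : ℕ, algebraMap A A' a ∣ x ^ n)
    [IsAdicComplete (Ideal.span {algebraMap A A' a}) A']
    [IsHausdorff (Ideal.span {algebraMap A A' a}) B']
    (K' : Type u) [Field K'] [Algebra A' K'] [Algebra A K'] [IsScalarTower A A' K']
    [IsLocalization.Away (algebraMap A A' a) K'] (hinj : Function.Injective (algebraMap A' K'))
    [Algebra.Etale A B] :
    Algebra.Etale A' B' := by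
  have hflat : Module.Flat A B := inferInstance
  have hss : IsSemisimpleRing (K' ⊗[A] B) := isSemisimpleRing_of_etale K' _
  obtain ⟨e, he, hk, -, -⟩ := exists_idempotent (B' := B') a hd1 hc ha K' hinj
  have hq := finite_quot_of_nil (A := A') (R := A' ⊗[A] B) (algebraMap A A' a) hnil
  have hq' := finite_of_surj (A := A) (B := B) (A' := A') (B' := B') a hd2
  have hfin : Module.Finite A' B' :=
    Groth.Agent.Ega1.LimitSystem.finite_of_finite_quotient
      (I := Ideal.span {algebraMap A A' a}) hq'
  have hsurj := π_surjective (B' := B') a haJ hd2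
  let _ : Algebra (A' ⊗[A] B) B' := (π A B A' B').toRingHom.toAlgebra
  have : IsScalarTower A' (A' ⊗[A] B) B' := by
    apply IsScalarTower.of_algebraMap_eq
    intro x
    exact ((π A B A' B').commutes x).symm
  have hloc : IsLocalization.Away (1 - e) B' :=
    isLocalization_away_of_surjective hsurj e he hk
  have : Algebra.Etale (A' ⊗[A] B) B' := Algebra.Etale.of_isLocalizationAway (1 - e)
  exact Algebra.Etale.comp A' (A' ⊗[A] B) B'

/-- The backward direction. -/
theorem backward [IsDomain A'] [IsLocalRing A'] (a : A)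
    (hd1 : ∀ x : A', ∃ (y : A) (z : A'), x = algebraMap A A' y + algebraMap A A' a * z)
    (hd2 : ∀ x : B', ∃ (y : B) (z : B'), x = algebraMap B B' y + algebraMap A B' a * z)
    (hc : ∀ (y : B) (z : B'), algebraMap B B' y = algebraMap A B' a * z →
      ∃ y' : B, y = algebraMap A B a * y')
    (ha : ∀ z : B', algebraMap A B' a * z = 0 → z = 0)
    (haJ : algebraMap A A' a ∈ IsLocalRing.maximalIdeal A')
    (hnil : ∀ x ∈ IsLocalRing.maximalIdeal A', ∃ n : ℕ, algebraMap A A' a ∣ x ^ n)
    [IsAdicComplete (Ideal.span {algebraMap A A' a}) A']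
    [IsHausdorff (Ideal.span {algebraMap A A' a}) B']
    (K' : Type u) [Field K'] [Algebra A' K'] [Algebra A K'] [IsScalarTower A A' K']
    [IsLocalization.Away (algebraMap A A' a) K'] (hinj : Function.Injective (algebraMap A' K'))
    [Module.Flat A B] [Module.FaithfullyFlat A A'] [Algebra.Etale K' (K' ⊗[A] B)]
    [Algebra.Etale A' B'] :
    Algebra.Etale A B := by
  have hss : IsSemisimpleRing (K' ⊗[A] B) := isSemisimpleRing_of_etale K' _
  obtain ⟨e, he, hk, hφinj, hφ⟩ := exists_idempotent (B' := B') a hd1 hc ha K' hinj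
  have hq := finite_quot_of_nil (A := A') (R := B') (algebraMap A A' a) hnil
  have hq' : Module.Finite A' (B' ⧸ (Ideal.span {algebraMap A A' a} • ⊤ : Submodule A' B')) := by
    rw [Ideal.smul_top_eq_map]
    exact Module.Finite.equiv (Submodule.Quotient.restrictScalarsEquiv A'
      ((Ideal.span {algebraMap A A' a}).map (algebraMap A' B'))).symm
  have hfin : Module.Finite A' B' :=
    Groth.Agent.Ega1.LimitSystem.finite_of_finite_quotient
      (I := Ideal.span {algebraMap A A' a}) hq'
  have hsurj := π_surjective (B' := B') a haJ hd2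
  let φ := Algebra.TensorProduct.map (IsScalarTower.toAlgHom A A' K') (AlgHom.id A B)
  let F := Localization.Away (φ e)
  have hφe : IsIdempotentElem (φ e) := by
    change φ e * φ e = φ e
    rw [← map_mul, he]
  have hFsurj : Function.Surjective (algebraMap (K' ⊗[A] B) F) :=
    IsLocalization.Away.algebraMap_surjective_of_isIdempotentElem (φ e) hφe
  have hD : Algebra.Etale A' (A' ⊗[A] B) := by
    rw [← RingHom.etale_algebraMap]
    refine RingHom.Etale.ofLocalizationSpanTarget _ ({1 - e, e} : Set (A' ⊗[A] B)) ?_ ?_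
    · rw [Ideal.eq_top_iff_one]
      have h1 : (1 - e) ∈ Ideal.span ({1 - e, e} : Set (A' ⊗[A] B)) :=
        Ideal.subset_span (by simp)
      have h2 : e ∈ Ideal.span ({1 - e, e} : Set (A' ⊗[A] B)) := Ideal.subset_span (by simp)
      have h3 := Ideal.add_mem _ h1 h2
      rwa [sub_add_cancel] at h3
    · rintro ⟨r, hr⟩
      simp only [Set.mem_insert_iff, Set.mem_singleton_iff] at hr
      rw [← IsScalarTower.algebraMap_eq, RingHom.etale_algebraMap]
      rcases hr with rfl | hre
      · let _ : Algebra (A' ⊗[A] B) B' := (π A B A' B').toRingHom.toAlgebra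
        have : IsScalarTower A' (A' ⊗[A] B) B' := by
          apply IsScalarTower.of_algebraMap_eq
          intro x
          exact ((π A B A' B').commutes x).symm
        have hloc : IsLocalization.Away (1 - e) B' :=
          isLocalization_away_of_surjective hsurj e he hk
        have e1 : B' ≃ₐ[A' ⊗[A] B] Localization.Away (1 - e) :=
          IsLocalization.algEquiv (Submonoid.powers (1 - e)) _ _
        exact Algebra.Etale.of_equiv (e1.restrictScalars A')
      · have hre' := hre.symm
        subst hre'
        let _ : Algebra (A' ⊗[A] B) F := ((algebraMap (K' ⊗[A] B) F).comp φ.toRingHom).toAlgebra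
        have hcomm : ∀ x, algebraMap (A' ⊗[A] B) F x = algebraMap (K' ⊗[A] B) F (φ x) :=
          fun x => rfl
        have hs : IsScalarTower A' K' F := inferInstance
        have hs' : IsScalarTower A' (A' ⊗[A] B) F := by
          apply IsScalarTower.of_algebraMap_eq
          intro x
          rw [hcomm, IsScalarTower.algebraMap_apply A' K' F,
            IsScalarTower.algebraMap_apply K' (K' ⊗[A] B) F]
          congr 1
        have hloc : IsLocalization.Away e F := by
          apply IsLocalization.away_of_isIdempotentElem_of_mul he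
          · intro x y
            rw [hcomm, hcomm, IsLocalization.eq_iff_exists (Submonoid.powers (φ e))]
            constructor
            · rintro ⟨⟨_, n, rfl⟩, h⟩
              apply hφinj
              change φ (e * x) = φ (e * y)
              rw [map_mul, map_mul]
              have h2 : φ e * (φ e ^ n * φ x) = φ e * (φ e ^ n * φ y) := by
                congr 1
              rw [← mul_assoc, ← mul_assoc, ← pow_succ', hφe.pow_succ_eq] at h2
              exact h2
            · intro h
              refine ⟨⟨φ e, 1, by simp⟩, ?_⟩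
              change φ e * φ x = φ e * φ y
              rw [← map_mul, ← map_mul, h]
          · intro x
            obtain ⟨y, rfl⟩ := hFsurj x
            obtain ⟨d, _, hd⟩ := hφ y
            refine ⟨d, ?_⟩
            rw [hcomm]
            change algebraMap (K' ⊗[A] B) F (φ d) = _
            have hd' : φ e * y = φ d := hd
            rw [← hd', map_mul]
            have h1 : algebraMap (K' ⊗[A] B) F (φ e) = 1 := by
              have hu : IsUnit (algebraMap (K' ⊗[A] B) F (φ e)) :=
                IsLocalization.Away.algebraMap_isUnit (φ e)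
              have hi : algebraMap (K' ⊗[A] B) F (φ e) * algebraMap (K' ⊗[A] B) F (φ e) =
                  algebraMap (K' ⊗[A] B) F (φ e) * 1 := by
                rw [← map_mul, mul_one]
                exact congrArg _ hφe
              exact hu.mul_left_cancel hi
            rw [h1, one_mul]
        have e1 : F ≃ₐ[A' ⊗[A] B] Localization.Away e :=
          IsLocalization.algEquiv (Submonoid.powers e) _ _
        have : Algebra.Etale A' K' := Algebra.Etale.of_isLocalizationAway (algebraMap A A' a)
        have : Algebra.Etale K' F := inferInstance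
        have : Algebra.Etale A' F := Algebra.Etale.comp A' K' F
        exact Algebra.Etale.of_equiv (e1.restrictScalars A')
  exact Algebra.Etale.of_etale_tensorProduct_of_faithfullyFlat A'

end Core

end K87.CompleteEtale
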