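import Groth.Agent.UnramA.FlatUnramReduced
import Mathlib.RingTheory.Etale.Kaehler
import Mathlib.RingTheory.Flat.TorsionFree
import Mathlib.RingTheory.Unramified.LocalRing
import Mathlib.RingTheory.Localization.AtPrime.Basic
import Mathlib.RingTheory.Valuation.ValuationRing
import Mathlib.RingTheory.Localization.Ideal
import Mathlib.RingTheory.Algebraic.Integral

/-!
Gluing étale algebras along a "composite" situation: `A` a ring, `S ⊆ A` a submonoid, `J` an ideal
all of whose elements are divisible by the elements of `S` (inside `J`). If `B` is an `A`-algebra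
with `S⁻¹B` of finite type (resp. formally unramified) and `B/JB` of finite type
(resp. formally unramified) then so is `B`.
-/

set_option autoImplicit false
universe u v

namespace K87.EtaleGlue

section General

variable {A : Type*} {B : Type*} [CommRing A] [CommRing B] [Algebra A B]
  (S : Submonoid A) (J : Ideal A)
  (hJ : ∀ s ∈ S, ∀ a ∈ J, ∃ a' ∈ J, a = s * a')
  (AS BS : Type*) [CommRing AS] [CommRing BS] [Algebra A AS] [Algebra B BS] [Algebra AS BS]
  [Algebra A BS] [IsScalarTower A AS BS] [IsScalarTower A B BS]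
  [IsLocalization S AS] [IsLocalization (Algebra.algebraMapSubmonoid B S) BS]

include AS BS hJ in
/-- Finite type glues. -/
theorem finiteType [Algebra.FiniteType AS BS]
    [Algebra.FiniteType A (B ⧸ J.map (algebraMap A B))] : Algebra.FiniteType A B := by
  classical
  obtain ⟨T, hT⟩ := Algebra.FiniteType.out (R := AS) (A := BS)
  obtain ⟨U, hU⟩ := Algebra.FiniteType.out (R := A) (A := B ⧸ J.map (algebraMap A B))
  have hsurj : ∀ z : BS, ∃ (b : B) (s : A), s ∈ S ∧
      z * algebraMap B BS (algebraMap A B s) = algebraMap B BS b := by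
    intro z
    obtain ⟨⟨b, s⟩, h⟩ := IsLocalization.surj (Algebra.algebraMapSubmonoid B S) z
    obtain ⟨s', hs', hs''⟩ := s.2
    refine ⟨b, s', hs', ?_⟩
    rw [hs'']
    exact h
  choose num den hden hnum using hsurj
  let B₀ : Subalgebra A B := Algebra.adjoin A
    ((T.image num ∪ U.image (Quotient.out : B ⧸ J.map (algebraMap A B) → B) : Finset B) : Set B)
  have h1 : ∀ z : BS, ∃ s ∈ S, ∃ b ∈ B₀,
      z * algebraMap B BS (algebraMap A B s) = algebraMap B BS b := by
    intro z
    have hz : z ∈ Algebra.adjoin AS (T : Set BS) := by rw [hT]; trivial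
    induction hz using Algebra.adjoin_induction with
    | mem x hx =>
      refine ⟨den x, hden x, num x, ?_, hnum x⟩
      apply Algebra.subset_adjoin
      rw [Finset.mem_coe, Finset.mem_union]
      exact Or.inl (Finset.mem_image_of_mem num hx)
    | algebraMap r =>
      obtain ⟨⟨a, s⟩, h⟩ := IsLocalization.surj S r
      refine ⟨s, s.2, algebraMap A B a, B₀.algebraMap_mem a, ?_⟩
      rw [← IsScalarTower.algebraMap_apply A B BS, ← IsScalarTower.algebraMap_apply A B BS,
        IsScalarTower.algebraMap_apply A AS BS, IsScalarTower.algebraMap_apply A AS BS, ← map_mul]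
      exact congrArg _ h
    | add x y _ _ hx hy =>
      obtain ⟨s, hs, b, hb, h⟩ := hx
      obtain ⟨s', hs', b', hb', h'⟩ := hy
      refine ⟨s * s', S.mul_mem hs hs', s' • b + s • b',
        B₀.add_mem (B₀.smul_mem hb s') (B₀.smul_mem hb' s), ?_⟩
      rw [map_mul, map_mul, map_add, Algebra.smul_def, Algebra.smul_def, map_mul, map_mul,
        ← h, ← h']
      ring
    | mul x y _ _ hx hy =>
      obtain ⟨s, hs, b, hb, h⟩ := hx
      obtain ⟨s', hs', b', hb', h'⟩ := hy
      refine ⟨s * s', S.mul_mem hs hs', b * b', B₀.mul_mem hb hb', ?_⟩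
      rw [map_mul, map_mul, map_mul, ← h, ← h']
      ring
  have h2 : ∀ b : B, ∃ s ∈ S, s • b ∈ B₀ := by
    intro b
    obtain ⟨s, hs, b', hb', h⟩ := h1 (algebraMap B BS b)
    rw [← map_mul] at h
    obtain ⟨c, hc⟩ := (IsLocalization.eq_iff_exists (Algebra.algebraMapSubmonoid B S) BS).1 h
    obtain ⟨s', hs', hs''⟩ := c.2
    refine ⟨s' * s, S.mul_mem hs' hs, ?_⟩
    have : (s' * s) • b = s' • b' := by
      rw [Algebra.smul_def, Algebra.smul_def, map_mul, hs'', ← hc]
      ring
    rw [this]
    exact B₀.smul_mem hb' s'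
  have h3 : ∀ b ∈ J.map (algebraMap A B), b ∈ B₀ := by
    intro b hb
    rw [Ideal.map] at hb
    induction hb using Submodule.span_induction with
    | mem x hx =>
      obtain ⟨a, _, rfl⟩ := hx
      exact B₀.algebraMap_mem a
    | zero => exact B₀.zero_mem
    | add x y _ _ hx hy => exact B₀.add_mem hx hy
    | smul c x hx _ =>
      -- generators times arbitrary elements
      clear * - hx hJ h2
      induction hx using Submodule.span_induction generalizing c with
      | mem x hx =>
        obtain ⟨a, ha, rfl⟩ := hx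
        obtain ⟨s, hs, hsc⟩ := h2 c
        obtain ⟨a', _, rfl⟩ := hJ s hs a ha
        have : c • algebraMap A B (s * a') = a' • (s • c) := by
          rw [smul_eq_mul, Algebra.smul_def, Algebra.smul_def, map_mul]
          ring
        rw [this]
        exact B₀.smul_mem hsc a'
      | zero => rw [smul_zero]; exact B₀.zero_mem
      | add x y _ _ hx hy => rw [smul_add]; exact B₀.add_mem (hx c) (hy c)
      | smul d x _ hx => rw [smul_smul]; exact hx _
  refine ⟨⟨T.image num ∪ U.image (Quotient.out : B ⧸ J.map (algebraMap A B) → B), ?_⟩⟩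
  rw [eq_top_iff]
  intro b _
  have hb : Ideal.Quotient.mk (J.map (algebraMap A B)) b ∈ Algebra.adjoin A (U : Set _) := by
    rw [hU]; trivial
  have hb' : Algebra.adjoin A (U : Set (B ⧸ J.map (algebraMap A B))) ≤
      B₀.map (Ideal.Quotient.mkₐ A (J.map (algebraMap A B))) := by
    rw [Algebra.adjoin_le_iff]
    intro x hx
    refine ⟨Quotient.out x, ?_, ?_⟩
    · apply Algebra.subset_adjoin
      rw [Finset.mem_coe, Finset.mem_union]
      exact Or.inr (Finset.mem_image_of_mem _ hx)
    · exact Quotient.out_eq' x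
  obtain ⟨b₀, hb₀, hbb⟩ := hb' hb
  have h4 : b - b₀ ∈ J.map (algebraMap A B) := by
    rw [← Ideal.Quotient.eq]
    exact hbb.symm
  have h5 := B₀.add_mem (h3 _ h4) hb₀
  rwa [sub_add_cancel] at h5

include AS BS hJ in
/-- Formally unramified glues. -/
theorem formallyUnramified [Algebra.FiniteType A B] [Algebra.FormallyUnramified AS BS]
    [Algebra.FormallyUnramified A (B ⧸ J.map (algebraMap A B))] :
    Algebra.FormallyUnramified A B := by
  classical
  constructor
  have : Algebra.FormallyUnramified A AS := Algebra.FormallyUnramified.of_isLocalization S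
  have hABS : Algebra.FormallyUnramified A BS := Algebra.FormallyUnramified.comp A AS BS
  have hloc : ∀ x : Ω[B⁄A], ∃ s ∈ S, s • x = 0 := by
    intro x
    have h0 : KaehlerDifferential.map A A B BS x = 0 := Subsingleton.elim _ _
    have h1 := (IsLocalizedModule.eq_zero_iff (Algebra.algebraMapSubmonoid B S)
      (KaehlerDifferential.map A A B BS)).1 h0
    obtain ⟨c, hc⟩ := h1
    obtain ⟨s, hs, hs'⟩ := c.2
    refine ⟨s, hs, ?_⟩
    rw [← algebraMap_smul B s x, hs']
    exact hc
  have hfin : Module.Finite B (Ω[B⁄A]) := inferInstance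
  obtain ⟨G, hG⟩ := hfin.fg_top
  choose σ hσ hσ' using hloc
  let s : A := ∏ g ∈ G, σ g
  have hs : s ∈ S := prod_mem fun g _ => hσ g
  have hs0 : ∀ x : Ω[B⁄A], s • x = 0 := by
    intro x
    have hx : x ∈ Submodule.span B (G : Set (Ω[B⁄A])) := by rw [hG]; trivial
    induction hx using Submodule.span_induction with
    | mem x hx =>
      obtain ⟨t, ht⟩ := Finset.dvd_prod_of_mem σ hx
      change (∏ g ∈ G, σ g) • x = 0
      rw [ht, mul_comm, mul_smul, hσ' x, smul_zero]
    | zero => rw [smul_zero]
    | add x y _ _ hx hy => rw [smul_add, hx, hy, add_zero]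
    | smul b x _ hx => rw [smul_comm, hx, smul_zero]
  -- the quotient part
  have hq : Subsingleton (TensorProduct B (B ⧸ J.map (algebraMap A B)) (Ω[B⁄A])) := by
    refine subsingleton_of_forall_eq 0 fun x ↦ ?_
    obtain ⟨x, rfl⟩ := (KaehlerDifferential.exact_kerCotangentToTensor_mapBaseChange A B
      (B ⧸ J.map (algebraMap A B)) Ideal.Quotient.mk_surjective x).mp (Subsingleton.elim _ _)
    obtain ⟨⟨x, hx⟩, rfl⟩ := Ideal.toCotangent_surjective _ x
    simp only [KaehlerDifferential.kerCotangentToTensor_toCotangent]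
    replace hx : x ∈ Ideal.map (algebraMap A B) J := by
      simpa [RingHom.mem_ker, Ideal.Quotient.eq_zero_iff_mem] using hx
    induction hx using Submodule.span_induction with
    | zero => simp
    | mem x h => obtain ⟨x, hx, rfl⟩ := h; simp
    | add x y hx hy _ _ => simp [*, TensorProduct.tmul_add]
    | smul a x hx _ =>
      have : Ideal.Quotient.mk (J.map (algebraMap A B)) x = 0 := by
        rw [Ideal.Quotient.eq_zero_iff_mem]
        exact hx
      simp [*, TensorProduct.tmul_add, TensorProduct.smul_tmul',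
        ← Algebra.algebraMap_eq_smul_one]
  have hJtop : ∀ x : Ω[B⁄A], x ∈ (J.map (algebraMap A B)) • (⊤ : Submodule B (Ω[B⁄A])) := by
    intro x
    have e := TensorProduct.quotTensorEquivQuotSMul (Ω[B⁄A]) (J.map (algebraMap A B))
    have : Subsingleton (Ω[B⁄A] ⧸ (J.map (algebraMap A B)) • (⊤ : Submodule B (Ω[B⁄A]))) :=
      e.symm.toEquiv.subsingleton
    rw [← Submodule.Quotient.mk_eq_zero]
    exact Subsingleton.elim _ _
  refine subsingleton_of_forall_eq 0 fun x ↦ ?_
  refine Submodule.smul_induction_on (hJtop x) ?_ ?_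
  · intro b hb y _
    rw [Ideal.map] at hb
    induction hb using Submodule.span_induction generalizing y with
    | mem b hb =>
      obtain ⟨a, ha, rfl⟩ := hb
      obtain ⟨a', _, rfl⟩ := hJ s hs a ha
      rw [map_mul, mul_comm, mul_smul, algebraMap_smul B s y, hs0, smul_zero]
    | zero => rw [zero_smul]
    | add b c _ _ hb hc => rw [add_smul, hb y trivial, hc y trivial, add_zero]
    | smul d b _ hb => rw [smul_eq_mul, mul_smul, hb y trivial, smul_zero]
  · intro x y hx hy
    rw [hx, hy, add_zero]

end General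

/-- The gluing statement for étale algebras over a domain. -/
theorem etale {A B : Type u} [CommRing A] [IsDomain A] [CommRing B] [Algebra A B]
    [Module.Flat A B] (S : Submonoid A) (J : Ideal A)
    (hJ : ∀ s ∈ S, ∀ a ∈ J, ∃ a' ∈ J, a = s * a')
    (AS BS : Type*) [CommRing AS] [CommRing BS] [Algebra A AS] [Algebra B BS] [Algebra AS BS]
    [Algebra A BS] [IsScalarTower A AS BS] [IsScalarTower A B BS]
    [IsLocalization S AS] [IsLocalization (Algebra.algebraMapSubmonoid B S) BS]
    [Algebra.FiniteType AS BS] [Algebra.FiniteType A (B ⧸ J.map (algebraMap A B))]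
    [Algebra.FormallyUnramified AS BS]
    [Algebra.FormallyUnramified A (B ⧸ J.map (algebraMap A B))] : Algebra.Etale A B := by
  have h1 : Algebra.FiniteType A B := finiteType S J hJ AS BS
  have h2 : Algebra.FormallyUnramified A B := formallyUnramified S J hJ AS BS
  apply Groth.Agent.UnramA.FlatUnramReduced.etale_of_flat_of_formallyUnramified A B
  rw [IsDomain.minimalPrimes_eq_singleton_bot]
  exact Set.finite_singleton _

section Valuation

variable {A B : Type*} [CommRing A] [CommRing B] [Algebra A B]

open Polynomial in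
theorem exists_dvd_aux (p : Ideal A) (P : Ideal B) [P.IsPrime]
    (hp : P.comap (algebraMap A B) = p) (t : B) (ht : t ∉ P) (htP : ∀ x ∈ P, t ∣ x) (i : ℕ) :
    ∀ f : A[X], f.coeff i ∉ p → Polynomial.aeval t f ∈ P →
      ∃ s : A, s ∉ p ∧ t ∣ algebraMap A B s := by
  induction i with
  | zero =>
    intro f hf hfP
    refine ⟨f.coeff 0, hf, ?_⟩
    have h := f.divX_mul_X_add
    rw [← h, map_add, map_mul, Polynomial.aeval_X, Polynomial.aeval_C] at hfP
    have h2 := htP _ hfP
    exact (dvd_add_right (Dvd.intro_left _ rfl)).1 h2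
  | succ i ih =>
    intro f hf hfP
    by_cases h0 : f.coeff 0 ∈ p
    · apply ih f.divX
      · rwa [Polynomial.coeff_divX]
      · have h := f.divX_mul_X_add
        rw [← h, map_add, map_mul, Polynomial.aeval_X, Polynomial.aeval_C] at hfP
        have h1 : algebraMap A B (f.coeff 0) ∈ P := by
          rw [← hp] at h0; exact h0
        have h2 := (P.add_mem_iff_left h1).1 hfP
        exact (Ideal.IsPrime.mem_or_mem ‹P.IsPrime› h2).resolve_right ht
    · refine ⟨f.coeff 0, h0, ?_⟩
      have h := f.divX_mul_X_add
      rw [← h, map_add, map_mul, Polynomial.aeval_X, Polynomial.aeval_C] at hfP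
      have h2 := htP _ hfP
      exact (dvd_add_right (Dvd.intro_left _ rfl)).1 h2

theorem exists_dvd_all [IsDomain A] [ValuationRing A] {ι : Type*} (s : Finset ι)
    (hs : s.Nonempty) (a : ι → A) : ∃ j ∈ s, ∀ i ∈ s, a j ∣ a i := by
  classical
  induction hs using Finset.Nonempty.cons_induction with
  | singleton i => exact ⟨i, by simp, by simp⟩
  | cons i s his _ ih =>
    obtain ⟨j, hj, hj'⟩ := ih
    rcases ValuationRing.dvd_total (a i) (a j) with h | h
    · refine ⟨i, by simp, ?_⟩
      intro l hl
      rw [Finset.mem_cons] at hl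
      rcases hl with rfl | hl
      · exact dvd_rfl
      · exact h.trans (hj' l hl)
    · refine ⟨j, by simp [hj], ?_⟩
      intro l hl
      rw [Finset.mem_cons] at hl
      rcases hl with rfl | hl
      · exact h
      · exact hj' l hl

open Polynomial in
theorem exists_dvd [IsDomain A] [ValuationRing A] [IsDomain B] [ValuationRing B]
    [FaithfulSMul A B] [Algebra.IsAlgebraic A B]
    (P : Ideal B) [P.IsPrime] (t : B) (ht : t ∉ P) :
    ∃ s : A, s ∉ P.comap (algebraMap A B) ∧ t ∣ algebraMap A B s := by
  obtain ⟨f, hf0, hft⟩ := Algebra.IsAlgebraic.isAlgebraic (R := A) t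
  have hne : f.support.Nonempty := Polynomial.nonempty_support_iff.2 hf0
  obtain ⟨j, hj, hj'⟩ := exists_dvd_all f.support hne f.coeff
  have hdvd : C (f.coeff j) ∣ f := by
    rw [Polynomial.C_dvd_iff_dvd_coeff]
    intro i
    by_cases hi : i ∈ f.support
    · exact hj' i hi
    · rw [Polynomial.notMem_support_iff.1 hi]; exact dvd_zero _
  obtain ⟨g, hg⟩ := hdvd
  have hjne : f.coeff j ≠ 0 := Polynomial.mem_support_iff.1 hj
  have hgj : g.coeff j = 1 := by
    have h := congrArg (fun q => q.coeff j) hg
    simp only [Polynomial.coeff_C_mul] at h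
    exact (mul_left_cancel₀ hjne (by rw [mul_one]; exact h)).symm
  have hgt : Polynomial.aeval t g = 0 := by
    rw [hg, map_mul, Polynomial.aeval_C] at hft
    refine (mul_eq_zero.1 hft).resolve_left ?_
    exact fun h => hjne ((FaithfulSMul.algebraMap_eq_zero_iff A B).1 h)
  apply exists_dvd_aux (P.comap (algebraMap A B)) P rfl t ht ?_ j g
  · rw [hgj, Ideal.mem_comap, map_one]
    exact fun h => ‹P.IsPrime›.ne_top ((Ideal.eq_top_iff_one P).2 h)
  · rw [hgt]; exact P.zero_mem
  · intro x hx
    rcases ValuationRing.dvd_total t x with h | ⟨c, hc⟩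
    · exact h
    · exact absurd (by rw [hc]; exact P.mul_mem_right _ hx) ht

theorem isLocalization_algebraMapSubmonoid [IsDomain A] [ValuationRing A] [IsDomain B]
    [ValuationRing B] [FaithfulSMul A B] [Algebra.IsAlgebraic A B]
    (P : Ideal B) [P.IsPrime] (BP : Type*) [CommRing BP] [Algebra B BP]
    [IsLocalization.AtPrime BP P] :
    IsLocalization (Algebra.algebraMapSubmonoid B (P.comap (algebraMap A B)).primeCompl) BP := by
  let M := Algebra.algebraMapSubmonoid B (P.comap (algebraMap A B)).primeCompl
  have hM : M ≤ P.primeCompl := by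
    rintro _ ⟨s, hs, rfl⟩
    exact hs
  have h2 : ∀ n ∈ P.primeCompl, ∃ m ∈ M, n ∣ m := by
    intro n hn
    obtain ⟨s, hs, h⟩ := exists_dvd (A := A) P n hn
    exact ⟨algebraMap A B s, ⟨s, hs, rfl⟩, h⟩
  have : IsLocalization P.primeCompl (Localization M) :=
    IsLocalization.of_le_of_exists_dvd M P.primeCompl hM h2
  exact IsLocalization.isLocalization_of_algEquiv M
    (IsLocalization.algEquiv P.primeCompl (Localization M) BP)

theorem flat [IsDomain A] [ValuationRing A] [IsDomain B] [FaithfulSMul A B] :
    Module.Flat A B := by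
  rw [Module.Flat.flat_iff_torsion_eq_bot_of_isBezout, ← Submodule.isTorsionFree_iff_torsion_eq_bot]
  infer_instance

theorem map_comap_eq [IsDomain A] [ValuationRing A] [IsDomain B]
    [ValuationRing B] [FaithfulSMul A B] [Algebra.IsAlgebraic A B]
    (P : Ideal B) [P.IsPrime] (AP BP : Type*) [CommRing AP] [Algebra A AP] [CommRing BP]
    [Algebra B BP] [Algebra AP BP] [Algebra A BP] [IsScalarTower A AP BP] [IsScalarTower A B BP]
    [IsLocalization.AtPrime AP (P.comap (algebraMap A B))]
    [IsLocalization.AtPrime BP P]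
    [IsLocalRing AP] [IsLocalRing BP] [IsLocalHom (algebraMap AP BP)]
    [Algebra.EssFiniteType AP BP] [Algebra.FormallyUnramified AP BP] :
    (P.comap (algebraMap A B)).map (algebraMap A B) = P := by
  have hloc := isLocalization_algebraMapSubmonoid (A := A) P BP
  apply le_antisymm Ideal.map_comap_le
  intro x hx
  have h1 : (IsLocalRing.maximalIdeal AP).map (algebraMap AP BP) = IsLocalRing.maximalIdeal BP :=
    Algebra.FormallyUnramified.map_maximalIdeal
  have h2 : (P.comap (algebraMap A B)).map (algebraMap A AP) = IsLocalRing.maximalIdeal AP :=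
    IsLocalization.AtPrime.map_eq_maximalIdeal _ AP
  have h3 : P.map (algebraMap B BP) = IsLocalRing.maximalIdeal BP :=
    IsLocalization.AtPrime.map_eq_maximalIdeal _ BP
  rw [← h2, Ideal.map_map, ← IsScalarTower.algebraMap_eq, ← h3] at h1
  have h4 : algebraMap B BP x ∈ P.map (algebraMap B BP) := Ideal.mem_map_of_mem _ hx
  rw [← h1, IsScalarTower.algebraMap_eq A B BP, ← Ideal.map_map,
    IsLocalization.mem_map_algebraMap_iff
      (Algebra.algebraMapSubmonoid B (P.comap (algebraMap A B)).primeCompl)] at h4
  obtain ⟨⟨⟨y, hy⟩, ⟨_, s, hs, rfl⟩⟩, h⟩ := h4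
  simp only at h
  rw [← map_mul] at h
  have hinj : Function.Injective (algebraMap B BP) :=
    IsLocalization.injective BP (P.primeCompl_le_nonZeroDivisors)
  have h5 := hinj h
  -- `y = s * y'`
  have key : ∀ y ∈ (P.comap (algebraMap A B)).map (algebraMap A B),
      ∃ y' ∈ (P.comap (algebraMap A B)).map (algebraMap A B), y = algebraMap A B s * y' := by
    intro y hy
    rw [Ideal.map] at hy
    induction hy using Submodule.span_induction with
    | mem b hb =>
      obtain ⟨a, ha, rfl⟩ := hb
      rcases ValuationRing.dvd_total s a with ⟨c, hc⟩ | ⟨c, hc⟩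
      · refine ⟨algebraMap A B c, Ideal.mem_map_of_mem _ ?_, by rw [hc, map_mul]⟩
        rw [hc] at ha
        exact (Ideal.IsPrime.mem_or_mem inferInstance ha).resolve_left hs
      · exact absurd (by rw [hc]; exact Ideal.mul_mem_right _ _ ha) hs
    | zero => exact ⟨0, Ideal.zero_mem _, by rw [mul_zero]⟩
    | add b c _ _ hb hc =>
      obtain ⟨b', hb', rfl⟩ := hb
      obtain ⟨c', hc', rfl⟩ := hc
      exact ⟨b' + c', Ideal.add_mem _ hb' hc', by rw [mul_add]⟩
    | smul d b _ hb =>
      obtain ⟨b', hb', rfl⟩ := hb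
      exact ⟨d * b', Ideal.mul_mem_left _ _ hb', by rw [smul_eq_mul]; ring⟩
  obtain ⟨y', hy', hyy⟩ := key y hy
  rw [hyy, mul_comm] at h5
  have hs0 : algebraMap A B s ≠ 0 := by
    intro h0
    apply hs
    change algebraMap A B s ∈ P
    rw [h0]; exact P.zero_mem
  rw [mul_left_cancel₀ hs0 h5]
  exact hy'

end Valuation

/-- Composite of étale extensions of valuation rings. -/
theorem etale_of_composite {A B : Type u} [CommRing A] [IsDomain A] [ValuationRing A] [CommRing B]
    [IsDomain B] [ValuationRing B] [Algebra A B] [FaithfulSMul A B] [Algebra.IsAlgebraic A B]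
    (P : Ideal B) [P.IsPrime]
    (hA : (Localization.localRingHom (Ideal.comap (algebraMap A B) P) P
      (algebraMap A B) rfl).Etale)
    (hB : (Ideal.quotientMap P (algebraMap A B)
      (le_refl (Ideal.comap (algebraMap A B) P))).Etale) : Algebra.Etale A B := by
  let p : Ideal A := P.comap (algebraMap A B)
  have hpp : p.IsPrime := inferInstanceAs (P.comap (algebraMap A B)).IsPrime
  let alg1 : Algebra (Localization.AtPrime p) (Localization.AtPrime P) :=
    (Localization.localRingHom p P (algebraMap A B) rfl).toAlgebra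
  have het : Algebra.Etale (Localization.AtPrime p) (Localization.AtPrime P) := hA
  have hlh : IsLocalHom (algebraMap (Localization.AtPrime p) (Localization.AtPrime P)) :=
    Localization.isLocalHom_localRingHom p P (algebraMap A B) rfl
  have ht : IsScalarTower A (Localization.AtPrime p) (Localization.AtPrime P) := by
    apply IsScalarTower.of_algebraMap_eq
    intro x
    rw [IsScalarTower.algebraMap_apply A B (Localization.AtPrime P)]
    exact (Localization.localRingHom_to_map p P (algebraMap A B) rfl x).symm
  have hloc : IsLocalization (Algebra.algebraMapSubmonoid B p.primeCompl)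
      (Localization.AtPrime P) :=
    isLocalization_algebraMapSubmonoid P _
  have hPe : p.map (algebraMap A B) = P :=
    map_comap_eq P (Localization.AtPrime p) (Localization.AtPrime P)
  have hflat : Module.Flat A B := flat
  have hcomp : (Ideal.quotientMap P (algebraMap A B) (le_refl p)).comp (Ideal.Quotient.mk p) =
      algebraMap A (B ⧸ P) := rfl
  have hsurj : Function.Surjective (Ideal.Quotient.mk p) := Ideal.Quotient.mk_surjective
  have hq1 : Algebra.FiniteType A (B ⧸ P) := by
    have h1 : (Ideal.quotientMap P (algebraMap A B) (le_refl p)).FiniteType :=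
      RingHom.FiniteType.of_finitePresentation
        (RingHom.Etale.iff_flat_and_formallyUnramified.1 hB).2.2
    have h2 := h1.comp (RingHom.FiniteType.of_surjective _ hsurj)
    rw [hcomp] at h2
    exact RingHom.finiteType_algebraMap.1 h2
  have hq2 : Algebra.FormallyUnramified A (B ⧸ P) := by
    have h1 : (Ideal.quotientMap P (algebraMap A B) (le_refl p)).FormallyUnramified :=
      hB.formallyUnramified
    have h2 := RingHom.FormallyUnramified.stableUnderComposition _ _
      (RingHom.FormallyUnramified.of_surjective hsurj) h1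
    rw [hcomp] at h2
    exact RingHom.formallyUnramified_algebraMap.1 h2
  have hq1' : Algebra.FiniteType A (B ⧸ p.map (algebraMap A B)) := by
    rw [hPe]; exact hq1
  have hq2' : Algebra.FormallyUnramified A (B ⧸ p.map (algebraMap A B)) := by
    rw [hPe]; exact hq2
  refine etale p.primeCompl p ?_ (Localization.AtPrime p) (Localization.AtPrime P)
  intro s hs a ha
  rcases ValuationRing.dvd_total s a with ⟨c, hc⟩ | ⟨c, hc⟩
  · refine ⟨c, ?_, hc⟩
    rw [hc] at ha
    exact (Ideal.IsPrime.mem_or_mem (inferInstance : p.IsPrime) ha).resolve_left hs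
  · exact absurd (by rw [hc]; exact Ideal.mul_mem_right _ _ ha) hs

end K87.EtaleGlue
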