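import Mathlib.RingTheory.Regular.ProjectiveDimension
import Mathlib.RingTheory.Noetherian.Basic
import Mathlib.Algebra.Homology.DerivedCategory.Ext.ExactSequences

/-!
# Projective dimension of finite modules over Noetherian rings via Ext into finite modules

* `hasProjectiveDimensionLT_of_ext_finite`: `Ext^n(M, N) = 0` for all finite `N` gives `pd M < n`.
* `ext_finite_of_ext_self`: if `pd M` is finite and `Ext^i(M, A) = 0` for `i > d`, then
  `Ext^i(M, N) = 0` for all `i > d` and all finite `N`.
-/

set_option autoImplicit false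

universe u

namespace K87.ExtPd

open CategoryTheory Abelian

variable {A : Type u} [CommRing A]

/-- `Ext^i(M, A^r) = 0` if `Ext^i(M, A) = 0`. -/
theorem subsingleton_ext_pi (M : ModuleCat.{u} A) (i : ℕ)
    (h : Subsingleton (Ext M (ModuleCat.of A A) i)) (r : ℕ) :
    Subsingleton (Ext M (ModuleCat.of A (Fin r → A)) i) := by
  classical
  refine subsingleton_of_forall_eq 0 fun x => ?_
  let π : Fin r → (ModuleCat.of A (Fin r → A) ⟶ ModuleCat.of A A) := fun j =>
    ModuleCat.ofHom (LinearMap.proj j)
  let ι : Fin r → (ModuleCat.of A A ⟶ ModuleCat.of A (Fin r → A)) := fun j =>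
    ModuleCat.ofHom (LinearMap.single A (fun _ => A) j)
  have hsum : ∑ j, π j ≫ ι j = 𝟙 (ModuleCat.of A (Fin r → A)) := by
    ext x k
    simp [π, ι, ModuleCat.hom_sum, Finset.sum_apply, Pi.single_apply]
  have h1 : x = x.comp (Ext.mk₀ (∑ j, π j ≫ ι j)) (add_zero i) := by
    rw [hsum, Ext.comp_mk₀_id]
  rw [h1, Ext.mk₀_sum, Ext.comp_sum]
  refine Finset.sum_eq_zero fun j _ => ?_
  rw [← Ext.mk₀_comp_mk₀, ← Ext.comp_assoc_of_second_deg_zero]
  rw [Subsingleton.elim (x.comp (Ext.mk₀ (π j)) (add_zero i)) 0, Ext.zero_comp]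

theorem exists_fin_surjective (M : Type u) [AddCommGroup M] [Module A M] [Module.Finite A M] :
    ∃ (r : ℕ) (f : (Fin r → A) →ₗ[A] M), Function.Surjective f :=
  Module.Finite.exists_fin' A M

/-- For a finite module `M` over a Noetherian ring, `Ext^n(M, N) = 0` for all finite `N` implies
`pd M < n`. -/
theorem hasProjectiveDimensionLT_of_ext_finite [IsNoetherianRing A] (n : ℕ) :
    ∀ (M : Type u) [AddCommGroup M] [Module A M] [Module.Finite A M]
      (_ : ∀ (N : Type u) [AddCommGroup N] [Module A N] [Module.Finite A N],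
        Subsingleton (Ext (ModuleCat.of A M) (ModuleCat.of A N) n)),
      HasProjectiveDimensionLT (ModuleCat.of A M) n := by
  induction n with
  | zero =>
    intro M _ _ _ h
    have h1 : Subsingleton (ModuleCat.of A M ⟶ ModuleCat.of A M) :=
      have := h M
      Ext.homEquiv₀.symm.subsingleton
    have h2 : Limits.IsZero (ModuleCat.of A M) := by
      rw [Limits.IsZero.iff_id_eq_zero]
      exact Subsingleton.elim _ _
    exact h2.hasProjectiveDimensionLT_zero
  | succ n ih =>
    intro M _ _ _ h
    obtain ⟨r, f, hf⟩ := exists_fin_surjective (A := A) M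
    have hS := LinearMap.shortExact_shortComplexKer hf
    have hP : Projective (f.shortComplexKer).X₂ :=
      ModuleCat.projective_of_free (Module.Free.chooseBasis A (Fin r → A))
    have hK : Module.Finite A (LinearMap.ker f) := inferInstance
    cases n with
    | zero =>
      have h1 : hS.extClass = 0 := by
        have := h (LinearMap.ker f)
        exact (show Subsingleton (Ext (f.shortComplexKer).X₃ (f.shortComplexKer).X₁ (0 + 1)) from this).elim _ _
      have h2 : (Ext.mk₀ (𝟙 (f.shortComplexKer).X₃)).comp hS.extClass (zero_add 1) = 0 := by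
        rw [h1, Ext.comp_zero]
      obtain ⟨y, hy⟩ := Ext.covariant_sequence_exact₃ _ hS _ (zero_add 1) h2
      obtain ⟨g, rfl⟩ := Ext.homEquiv₀.symm.surjective y
      rw [Ext.homEquiv₀_symm_apply, Ext.mk₀_comp_mk₀] at hy
      have h3 : g ≫ (f.shortComplexKer).g = 𝟙 _ := Ext.homEquiv₀.symm.injective hy
      have h4 : Retract (f.shortComplexKer).X₃ (f.shortComplexKer).X₂ := ⟨g, _, h3⟩
      have h5 : Projective (f.shortComplexKer).X₃ := h4.projective
      exact projective_iff_hasProjectiveDimensionLT_one.1 h5
    | succ n =>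
      have hK' := ih (LinearMap.ker f) (by
        intro N _ _ _
        refine subsingleton_of_forall_eq 0 fun y => ?_
        have h0 : hS.extClass.comp y (add_comm 1 (n + 1)) = 0 :=
          (show Subsingleton (Ext (f.shortComplexKer).X₃ (ModuleCat.of A N) (n + 1 + 1)) from
            h N).elim _ _
        obtain ⟨x, hx⟩ := Ext.contravariant_sequence_exact₁ hS _ y (add_comm 1 (n + 1)) h0
        rw [← hx, x.eq_zero_of_projective, Ext.comp_zero])
      exact hS.hasProjectiveDimensionLT_X₃ (n + 1) hK'
        (hasProjectiveDimensionLT_of_ge _ 1 (n + 1 + 1) (by lia))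

/-- If `pd M < e` and `Ext^i(M, A) = 0` for `i > d`, then `Ext^i(M, N) = 0` for all `i > d` and all
finite `N`. -/
theorem ext_finite_of_ext_self [IsNoetherianRing A] (M : ModuleCat.{u} A) (d e : ℕ)
    (he : HasProjectiveDimensionLT M e)
    (h : ∀ i : ℕ, d < i → Subsingleton (Ext M (ModuleCat.of A A) i)) :
    ∀ (k i : ℕ), d < i → e ≤ i + k → ∀ (N : Type u) [AddCommGroup N] [Module A N] [Module.Finite A N],
      Subsingleton (Ext M (ModuleCat.of A N) i) := by
  intro k
  induction k with
  | zero =>
    intro i _ hei N _ _ _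
    exact HasProjectiveDimensionLT.subsingleton M e i (by omega) _
  | succ k ih =>
    intro i hi hei N _ _ _
    obtain ⟨r, f, hf⟩ := exists_fin_surjective (A := A) N
    have hS := LinearMap.shortExact_shortComplexKer hf
    have h1 := ih (i + 1) (by omega) (by omega) (LinearMap.ker f)
    have h2 := subsingleton_ext_pi M i (h i hi) r
    refine subsingleton_of_forall_eq 0 fun x => ?_
    have h0 : x.comp hS.extClass (rfl : i + 1 = i + 1) = 0 :=
      (show Subsingleton (Ext M (f.shortComplexKer).X₁ (i + 1)) from h1).elim _ _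
    obtain ⟨y, hy⟩ := Ext.covariant_sequence_exact₃ M hS x rfl h0
    rw [← hy, (show Subsingleton (Ext M (f.shortComplexKer).X₂ i) from h2).elim y 0, Ext.zero_comp]

/-- If `pd M` is finite and `Ext^i(M, A) = 0` for all `i > d` then `pd M ≤ d`. -/
theorem hasProjectiveDimensionLT_of_ext_self [IsNoetherianRing A] (M : Type u) [AddCommGroup M]
    [Module A M] [Module.Finite A M] (d e : ℕ)
    (he : HasProjectiveDimensionLT (ModuleCat.of A M) e)
    (h : ∀ i : ℕ, d < i → Subsingleton (Ext (ModuleCat.of A M) (ModuleCat.of A A) i)) :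
    HasProjectiveDimensionLT (ModuleCat.of A M) (d + 1) :=
  hasProjectiveDimensionLT_of_ext_finite (d + 1) M fun N _ _ _ =>
    ext_finite_of_ext_self _ d e he h e (d + 1) (by omega) (by omega) N

end K87.ExtPd
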