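import Mathlib.RingTheory.Spectrum.Prime.FreeLocus
import Mathlib.RingTheory.Polynomial.Basic
import Mathlib.RingTheory.Localization.BaseChange
import Mathlib.RingTheory.TensorProduct.Free
import Mathlib.RingTheory.Spectrum.Prime.Topology

/-!
Extended projective modules over `R[X]` are locally free on the base.
-/

set_option autoImplicit false
universe u
open scoped TensorProduct
open Polynomial

namespace K87.ExtendedFree

/-- A finite projective module is free on a finite cover by basic opens. -/
theorem exists_cover (R : Type u) [CommRing R] (Q : Type u) [AddCommGroup Q] [Module R Q]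
    [Module.Finite R Q] [Module.Projective R Q] :
    ∃ (n : ℕ) (g : Fin n → R), Ideal.span (Set.range g) = ⊤ ∧
      ∀ i, Module.Free (Localization.Away (g i)) (LocalizedModule (Submonoid.powers (g i)) Q) := by
  have hfp : Module.FinitePresentation R Q := Module.finitePresentation_of_projective R Q
  let T : Set R := {g | Module.Free (Localization.Away g) (LocalizedModule (Submonoid.powers g) Q)}
  have hT : Ideal.span T = ⊤ := by
    by_contra hne
    obtain ⟨m, hm, hle⟩ := Ideal.exists_le_maximal _ hne
    have hx : (⟨m, hm.isPrime⟩ : PrimeSpectrum R) ∈ Module.freeLocus R Q := by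
      rw [Module.freeLocus_eq_univ]; trivial
    have hfree : Module.Free (Localization.AtPrime m) (LocalizedModule m.primeCompl Q) := hx
    obtain ⟨r, hr, hr', _⟩ := Module.FinitePresentation.exists_free_localizedModule_powers
      m.primeCompl (LocalizedModule.mkLinearMap m.primeCompl Q) (Localization.AtPrime m)
    exact hr (hle (Ideal.subset_span hr'))
  rw [Ideal.eq_top_iff_one] at hT
  obtain ⟨s, hs, hs'⟩ := Submodule.mem_span_finite_of_mem_span hT
  refine ⟨s.card, fun i => (s.equivFin.symm i).1, ?_, fun i => hs (s.equivFin.symm i).2⟩
  rw [Ideal.eq_top_iff_one]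
  have h1 : (s : Set R) ⊆ Set.range (fun i => (s.equivFin.symm i).1) := by
    intro x hx
    exact ⟨s.equivFin ⟨x, hx⟩, by simp⟩
  exact Ideal.span_mono h1 hs'

section

variable {R : Type u} [CommRing R] {P : Type u} [AddCommGroup P] [Module R[X] P]
  {Q : Type u} [AddCommGroup Q] [Module R Q]

/-- The base of an extended module. -/
theorem exists_equiv (e : P ≃ₗ[R[X]] (R[X] ⊗[R] Q)) [Module.Finite R[X] P]
    [Module.Projective R[X] P] : Module.Finite R Q ∧ Module.Projective R Q := by
  let _ : Algebra R[X] R := (Polynomial.evalRingHom 0).toAlgebra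
  have : IsScalarTower R R[X] R := by
    apply IsScalarTower.of_algebraMap_eq
    intro x
    change x = Polynomial.eval 0 (Polynomial.C x)
    rw [Polynomial.eval_C]
  let e1 : (R ⊗[R[X]] P) ≃ₗ[R] Q :=
    (TensorProduct.AlgebraTensorModule.congr (LinearEquiv.refl R R) e).trans
      ((TensorProduct.AlgebraTensorModule.cancelBaseChange R R[X] R R Q).trans
        (TensorProduct.lid R Q))
  exact ⟨Module.Finite.equiv e1, Module.Projective.of_equiv e1⟩

theorem free_away (e : P ≃ₗ[R[X]] (R[X] ⊗[R] Q)) (g : R)
    [Module.Free (Localization.Away g) (LocalizedModule (Submonoid.powers g) Q)] :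
    Module.Free (Localization.Away (Polynomial.C g : R[X]))
        (LocalizedModule (Submonoid.powers (Polynomial.C g : R[X])) P) := by
  let S := Localization.Away (Polynomial.C g : R[X])
  let f : Localization.Away g →+* S :=
    IsLocalization.Away.lift g (g := (algebraMap R[X] S).comp (algebraMap R R[X]))
      (IsLocalization.Away.algebraMap_isUnit (Polynomial.C g))
  let _ : Algebra (Localization.Away g) S := f.toAlgebra
  have : IsScalarTower R (Localization.Away g) S := by
    apply IsScalarTower.of_algebraMap_eq
    intro x
    rw [IsScalarTower.algebraMap_apply R R[X] S]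
    exact (IsLocalization.Away.lift_eq (S := Localization.Away g) g
      (g := (algebraMap R[X] S).comp (algebraMap R R[X]))
      (IsLocalization.Away.algebraMap_isUnit (Polynomial.C g)) x).symm
  have hfr : Module.Free (Localization.Away g) (Localization.Away g ⊗[R] Q) :=
    Module.Free.of_equiv (LocalizedModule.equivTensorProduct (Submonoid.powers g) Q)
  have h2 : Module.Free S (S ⊗[Localization.Away g] (Localization.Away g ⊗[R] Q)) := inferInstance
  have h3 : Module.Free S (S ⊗[R] Q) :=
    Module.Free.of_equiv
      (TensorProduct.AlgebraTensorModule.cancelBaseChange R (Localization.Away g) S S Q)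
  have h4 : Module.Free S (S ⊗[R[X]] (R[X] ⊗[R] Q)) :=
    Module.Free.of_equiv
      (TensorProduct.AlgebraTensorModule.cancelBaseChange R R[X] S S Q).symm
  have h5 : Module.Free S (S ⊗[R[X]] P) :=
    Module.Free.of_equiv
      (TensorProduct.AlgebraTensorModule.congr (LinearEquiv.refl S S) e).symm
  exact Module.Free.of_equiv
    (LocalizedModule.equivTensorProduct (Submonoid.powers (Polynomial.C g : R[X])) P).symm

end

end K87.ExtendedFree
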