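import Mathlib.RingTheory.Smooth.Basic
import Mathlib.RingTheory.FiniteType
import Mathlib.Data.Complex.Basic
import Mathlib.RingTheory.Localization.Away.Basic
import Mathlib.Algebra.Polynomial.Derivative
import Mathlib.LinearAlgebra.Charpoly.Basic
import Mathlib.RingTheory.Polynomial.Basic
import Mathlib.Algebra.Polynomial.Roots
import Mathlib.RingTheory.Coprime.Lemmas
import Mathlib.RingTheory.Localization.Integer

/-!
Logarithmic derivations along `Θ = ∏ (X - θ i)` with nonresonant residues.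
-/

set_option autoImplicit false
open Polynomial
universe u

namespace K87.LogDeriv

theorem isUnit_sub_of_charpoly {R M : Type*} [CommRing R] [AddCommGroup M] [Module R M]
    [Module.Free R M] [Module.Finite R M] (T : M →ₗ[R] M) (a : R)
    (h : IsUnit (T.charpoly.eval a)) : IsUnit (T - algebraMap R (Module.End R M) a) := by
  obtain ⟨q, hq⟩ := Polynomial.X_sub_C_dvd_sub_C_eval (a := a) (p := T.charpoly)
  have h1 := congrArg (Polynomial.aeval T) hq
  rw [map_sub, LinearMap.aeval_self_charpoly, map_mul, map_sub, Polynomial.aeval_X,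
    Polynomial.aeval_C, Polynomial.aeval_C, zero_sub] at h1
  obtain ⟨b, hb⟩ := h.exists_left_inv
  have hcomm : Commute (T - algebraMap R (Module.End R M) a) (Polynomial.aeval T q) := by
    have : Commute (Polynomial.aeval T (X - C a)) (Polynomial.aeval T q) := by
      rw [commute_iff_eq, ← map_mul, ← map_mul, mul_comm]
    simpa using this
  have hU : IsUnit ((T - algebraMap R (Module.End R M) a) * Polynomial.aeval T q) := by
    rw [← h1]
    exact (h.map (algebraMap R (Module.End R M))).neg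
  exact (hcomm.isUnit_mul_iff.1 hU).1

section

set_option linter.unusedSectionVars false
variable {R : Type u} [CommRing R] [IsDomain R] [Algebra ℂ R]

theorem prod_dvd {r : ℕ} (θ : Fin r → R) (hθ : ∀ i k, i ≠ k → IsUnit (θ i - θ k))
    (v : R[X]) (hv : ∀ i, v.eval (θ i) = 0) : (∏ i, (X - Polynomial.C (θ i))) ∣ v := by
  apply Finset.prod_dvd_of_coprime
  · intro i _ k _ hik
    exact Polynomial.isCoprime_X_sub_C_of_isUnit_sub (hθ i k hik)
  · intro i _
    rw [Polynomial.dvd_iff_isRoot]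
    exact hv i

/-- The data of the statement, with the key evaluation lemma. -/
theorem eval_D0 {d r : ℕ} (θ : Fin r → R)
    (Θ : R[X]) (hΘ : Θ = ∏ i, (X - Polynomial.C (θ i)))
    (D₀ : (Fin d → R[X]) →+ (Fin d → R[X]))
    (hD₀ : ∀ (p : R[X]) (v : Fin d → R[X]),
      D₀ (p • v) = (Θ * Polynomial.derivative p) • v + p • D₀ v)
    (Res : Fin r → ((Fin d → R) →ₗ[R] (Fin d → R)))
    (hRes : ∀ (i : Fin r) (m : Fin d → R) (j : Fin d),
      (D₀ (fun j => Polynomial.C (m j)) j).eval (θ i) =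
        (∏ k ∈ Finset.univ.erase i, (θ i - θ k)) * Res i m j)
    (v : Fin d → R[X]) (i : Fin r) (j : Fin d) :
    (D₀ v j).eval (θ i) =
      (∏ k ∈ Finset.univ.erase i, (θ i - θ k)) * Res i (fun j => (v j).eval (θ i)) j := by
  have hΘi : Θ.eval (θ i) = 0 := by
    rw [hΘ, Polynomial.eval_prod]
    exact Finset.prod_eq_zero (Finset.mem_univ i) (by simp)
  have hv : v = ∑ l, v l • (Pi.single l (1 : R[X]) : Fin d → R[X]) := by
    ext1 j
    simp [Finset.sum_apply, Pi.single_apply]
  have hm : (fun j => (v j).eval (θ i)) =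
      ∑ l, (v l).eval (θ i) • (Pi.single l (1 : R) : Fin d → R) := by
    ext1 j
    simp [Finset.sum_apply, Pi.single_apply]
  have hs : ∀ l : Fin d, (Pi.single l (1 : R[X]) : Fin d → R[X]) =
      fun j => Polynomial.C ((Pi.single l (1 : R) : Fin d → R) j) := by
    intro l
    ext1 j
    by_cases h : j = l
    · subst h; simp
    · simp [h]
  rw [hm, map_sum, Finset.sum_apply, Finset.mul_sum]
  conv_lhs => rw [hv]
  rw [map_sum, Finset.sum_apply, Polynomial.eval_finsetSum]
  refine Finset.sum_congr rfl fun l _ => ?_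
  rw [hD₀, Pi.add_apply, Pi.smul_apply, Pi.smul_apply, smul_eq_mul, smul_eq_mul,
    Polynomial.eval_add, Polynomial.eval_mul, Polynomial.eval_mul, Polynomial.eval_mul, hΘi,
    zero_mul, zero_mul, zero_add, hs, hRes, map_smul, Pi.smul_apply, smul_eq_mul]
  ring

theorem eval_derivative {r : ℕ} (θ : Fin r → R)
    (Θ : R[X]) (hΘ : Θ = ∏ i, (X - Polynomial.C (θ i))) (i : Fin r) :
    (Polynomial.derivative Θ).eval (θ i) = ∏ k ∈ Finset.univ.erase i, (θ i - θ k) := by
  rw [hΘ, Polynomial.derivative_prod_finset, Polynomial.eval_finsetSum,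
    Finset.sum_eq_single i]
  · simp [Polynomial.eval_prod]
  · intro b _ hb
    rw [Polynomial.eval_mul, Polynomial.eval_prod,
      Finset.prod_eq_zero (i := i) (Finset.mem_erase.2 ⟨hb.symm, Finset.mem_univ i⟩) (by simp),
      zero_mul]
  · intro h; exact absurd (Finset.mem_univ i) h

theorem isUnit_c {r : ℕ} (θ : Fin r → R) (hθ : ∀ i k, i ≠ k → IsUnit (θ i - θ k)) (i : Fin r) :
    IsUnit (∏ k ∈ Finset.univ.erase i, (θ i - θ k)) := by
  refine Finset.prod_induction _ IsUnit (fun a b ha hb => ha.mul hb) isUnit_one ?_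
  intro k hk
  exact hθ i k (Finset.ne_of_mem_erase hk).symm

theorem isUnit_res {d : ℕ} (T : (Fin d → R) →ₗ[R] (Fin d → R))
    (hχ : ∃ χ : ℂ[X], T.charpoly = χ.map (algebraMap ℂ R) ∧
      ∀ n : ℤ, n ≠ 0 → χ.eval (n : ℂ) ≠ 0) (n : ℕ) :
    IsUnit (T - algebraMap R (Module.End R (Fin d → R)) ((n + 1 : ℕ) : R)) := by
  apply isUnit_sub_of_charpoly
  obtain ⟨χ, h1, h2⟩ := hχ
  rw [h1]
  have h3 : (((n + 1 : ℕ) : R)) = algebraMap ℂ R ((n + 1 : ℕ) : ℂ) := by simp
  rw [h3, Polynomial.eval_map_apply]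
  have h4 := h2 ((n + 1 : ℕ) : ℤ) (by exact_mod_cast Nat.succ_ne_zero n)
  have h5 : IsUnit (χ.eval ((n + 1 : ℕ) : ℂ)) := by
    rw [isUnit_iff_ne_zero]
    simpa using h4
  exact h5.map (algebraMap ℂ R)

/-- The basic step: `Θ^n • D u = D₀ v - n Θ' v` when `Θ^n • u = v`. -/
theorem pow_smul_D {d : ℕ} (Θ : R[X])
    (D₀ : (Fin d → R[X]) →+ (Fin d → R[X]))
    (D : (Fin d → Localization.Away Θ) →+ (Fin d → Localization.Away Θ))
    (hD : ∀ (p : R[X]) (w : Fin d → Localization.Away Θ),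
      D (p • w) = (Θ * Polynomial.derivative p) • w + p • D w)
    (hDD₀ : ∀ v : Fin d → R[X],
      D (fun j => algebraMap R[X] (Localization.Away Θ) (v j)) =
        fun j => algebraMap R[X] (Localization.Away Θ) (D₀ v j))
    (n : ℕ) (u : Fin d → Localization.Away Θ) (v : Fin d → R[X])
    (h : Θ ^ n • u = fun j => algebraMap R[X] (Localization.Away Θ) (v j)) :
    Θ ^ n • D u = fun j => algebraMap R[X] (Localization.Away Θ)
      ((D₀ v - ((n : R[X]) * Polynomial.derivative Θ) • v) j) := by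
  have h1 := hD (Θ ^ n) u
  rw [h, hDD₀] at h1
  have h2 : Θ * Polynomial.derivative (Θ ^ n) = ((n : R[X]) * Polynomial.derivative Θ) * Θ ^ n := by
    rw [Polynomial.derivative_pow]
    cases n with
    | zero => simp
    | succ n =>
      rw [Nat.add_sub_cancel, Polynomial.C_eq_natCast, pow_succ]
      ring
  rw [h2, mul_smul, h] at h1
  have h3 : Θ ^ n • D u = (fun j => algebraMap R[X] (Localization.Away Θ) (D₀ v j)) -
      ((n : R[X]) * Polynomial.derivative Θ) •
        (fun j => algebraMap R[X] (Localization.Away Θ) (v j)) := by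
    rw [h1]; abel
  rw [h3]
  ext1 j
  simp [Algebra.smul_def]

theorem smul_cancel {d : ℕ} (Θ : R[X]) (n : ℕ) (u v : Fin d → Localization.Away Θ)
    (h : Θ ^ n • u = Θ ^ n • v) : u = v := by
  have hu : IsUnit (algebraMap R[X] (Localization.Away Θ) (Θ ^ n)) := by
    rw [map_pow]
    exact (IsLocalization.Away.algebraMap_isUnit Θ).pow n
  ext1 j
  have := congrFun h j
  rw [Pi.smul_apply, Pi.smul_apply, Algebra.smul_def, Algebra.smul_def] at this
  exact hu.mul_left_cancel this

theorem exists_div {d : ℕ} (Θ : R[X]) (n : ℕ) (v : Fin d → R[X]) :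
    ∃ u : Fin d → Localization.Away Θ,
      Θ ^ n • u = fun j => algebraMap R[X] (Localization.Away Θ) (v j) := by
  have hu : IsUnit (algebraMap R[X] (Localization.Away Θ) (Θ ^ n)) := by
    rw [map_pow]
    exact (IsLocalization.Away.algebraMap_isUnit Θ).pow n
  obtain ⟨b, hb⟩ := hu.exists_right_inv
  refine ⟨fun j => b * algebraMap R[X] (Localization.Away Θ) (v j), ?_⟩
  ext1 j
  rw [Pi.smul_apply, Algebra.smul_def, ← mul_assoc, hb, one_mul]

theorem exists_pow {d : ℕ} (Θ : R[X]) (w : Fin d → Localization.Away Θ) :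
    ∃ (n : ℕ) (v : Fin d → R[X]),
      Θ ^ n • w = fun j => algebraMap R[X] (Localization.Away Θ) (v j) := by
  classical
  obtain ⟨b, hb⟩ := IsLocalization.exist_integer_multiples_of_finite (Submonoid.powers Θ) w
  obtain ⟨n, hn⟩ := b.2
  choose v hv using hb
  refine ⟨n, v, ?_⟩
  ext1 j
  rw [hv j, Pi.smul_apply]
  simp only at hn
  rw [hn]

theorem algebraMap_inj {d r : ℕ} (θ : Fin r → R)
    (Θ : R[X]) (hΘ : Θ = ∏ i, (X - Polynomial.C (θ i))) (u v : Fin d → R[X])
    (h : (fun j => algebraMap R[X] (Localization.Away Θ) (u j)) =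
      fun j => algebraMap R[X] (Localization.Away Θ) (v j)) : u = v := by
  have h0 : Θ ≠ 0 := by
    rw [hΘ]
    exact Finset.prod_ne_zero_iff.2 fun i _ => Polynomial.X_sub_C_ne_zero _
  have hinj : Function.Injective (algebraMap R[X] (Localization.Away Θ)) :=
    IsLocalization.injective (Localization.Away Θ) (powers_le_nonZeroDivisors_of_noZeroDivisors h0)
  ext1 j
  exact hinj (congrFun h j)

theorem eval_op {d r : ℕ} (θ : Fin r → R)
    (Θ : R[X]) (hΘ : Θ = ∏ i, (X - Polynomial.C (θ i)))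
    (D₀ : (Fin d → R[X]) →+ (Fin d → R[X]))
    (hD₀ : ∀ (p : R[X]) (v : Fin d → R[X]),
      D₀ (p • v) = (Θ * Polynomial.derivative p) • v + p • D₀ v)
    (Res : Fin r → ((Fin d → R) →ₗ[R] (Fin d → R)))
    (hRes : ∀ (i : Fin r) (m : Fin d → R) (j : Fin d),
      (D₀ (fun j => Polynomial.C (m j)) j).eval (θ i) =
        (∏ k ∈ Finset.univ.erase i, (θ i - θ k)) * Res i m j)
    (n : ℕ) (v : Fin d → R[X]) (i : Fin r) :
    (fun j => (((D₀ v - ((n : R[X]) * Polynomial.derivative Θ) • v)) j).eval (θ i)) =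
      (∏ k ∈ Finset.univ.erase i, (θ i - θ k)) •
        (Res i - algebraMap R (Module.End R (Fin d → R)) (n : R))
          (fun j => (v j).eval (θ i)) := by
  ext1 j
  rw [Pi.sub_apply, Polynomial.eval_sub, eval_D0 θ Θ hΘ D₀ hD₀ Res hRes, Pi.smul_apply,
    Pi.smul_apply, smul_eq_mul, smul_eq_mul, Polynomial.eval_mul, Polynomial.eval_mul,
    eval_derivative θ Θ hΘ, LinearMap.sub_apply, Pi.sub_apply, Module.algebraMap_end_apply,
    Pi.smul_apply, smul_eq_mul, Polynomial.eval_natCast]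
  ring

theorem main3 {d r : ℕ} (θ : Fin r → R)
    (hθ : ∀ i k, i ≠ k → IsUnit (θ i - θ k))
    (Θ : R[X]) (hΘ : Θ = ∏ i, (X - Polynomial.C (θ i)))
    (D₀ : (Fin d → R[X]) →+ (Fin d → R[X]))
    (hD₀ : ∀ (p : R[X]) (v : Fin d → R[X]),
      D₀ (p • v) = (Θ * Polynomial.derivative p) • v + p • D₀ v)
    (D : (Fin d → Localization.Away Θ) →+ (Fin d → Localization.Away Θ))
    (hD : ∀ (p : R[X]) (w : Fin d → Localization.Away Θ),
      D (p • w) = (Θ * Polynomial.derivative p) • w + p • D w)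
    (hDD₀ : ∀ v : Fin d → R[X],
      D (fun j => algebraMap R[X] (Localization.Away Θ) (v j)) =
        fun j => algebraMap R[X] (Localization.Away Θ) (D₀ v j))
    (Res : Fin r → ((Fin d → R) →ₗ[R] (Fin d → R)))
    (hRes : ∀ (i : Fin r) (m : Fin d → R) (j : Fin d),
      (D₀ (fun j => Polynomial.C (m j)) j).eval (θ i) =
        (∏ k ∈ Finset.univ.erase i, (θ i - θ k)) * Res i m j)
    (hχ : ∀ i : Fin r, ∃ χ : ℂ[X], (Res i).charpoly = χ.map (algebraMap ℂ R) ∧
      ∀ n : ℤ, n ≠ 0 → χ.eval (n : ℂ) ≠ 0) (n : ℕ) :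
    ∀ (f : Fin d → Localization.Away Θ) (v : Fin d → R[X]),
      Θ ^ n • f = (fun j => algebraMap R[X] (Localization.Away Θ) (v j)) →
    (∃ v : Fin d → R[X], D f = fun j => algebraMap R[X] (Localization.Away Θ) (v j)) →
    ∃ v : Fin d → R[X], f = fun j => algebraMap R[X] (Localization.Away Θ) (v j) := by
  induction n with
  | zero =>
    intro f v hv _
    rw [pow_zero, one_smul] at hv
    exact ⟨v, hv⟩
  | succ n ih =>
    intro f v hv hf
    obtain ⟨g, hg⟩ := hf
    have h1 := pow_smul_D Θ D₀ D hD hDD₀ (n + 1) f v hv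
    rw [hg] at h1
    have h2 : (Θ ^ (n + 1) • g) = D₀ v - (((n + 1 : ℕ) : R[X]) * Polynomial.derivative Θ) • v := by
      apply algebraMap_inj θ Θ hΘ
      rw [← h1]
      ext1 j
      simp [Algebra.smul_def]
    have h3 : ∀ i, (fun j => (v j).eval (θ i)) = 0 := by
      intro i
      have h4 := eval_op θ Θ hΘ D₀ hD₀ Res hRes (n + 1) v i
      have hΘi : Θ.eval (θ i) = 0 := by
        rw [hΘ, Polynomial.eval_prod]
        exact Finset.prod_eq_zero (Finset.mem_univ i) (by simp)
      have h5 : (fun j => (((Θ ^ (n + 1) • g)) j).eval (θ i)) = 0 := by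
        ext1 j
        simp [hΘi]
      rw [← h2, h5] at h4
      have h6 := (isUnit_c θ hθ i).smul_eq_zero.1 h4.symm
      obtain ⟨T, hT⟩ := (isUnit_res (Res i) (hχ i) n).exists_left_inv
      have h7 := congrArg T h6
      rw [map_zero, ← Module.End.mul_apply, hT] at h7
      exact h7
    have h4 : ∀ j, Θ ∣ v j := by
      intro j
      rw [hΘ]
      exact prod_dvd θ hθ (v j) (fun i => congrFun (h3 i) j)
    choose v' hv' using h4
    apply ih f v' ?_ ⟨g, hg⟩
    apply smul_cancel Θ 1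
    rw [← mul_smul, pow_one, ← pow_succ', hv]
    ext1 j
    rw [hv' j, Pi.smul_apply, Algebra.smul_def, map_mul]

theorem interp {d r : ℕ} (θ : Fin r → R)
    (hθ : ∀ i k, i ≠ k → IsUnit (θ i - θ k)) (a : Fin r → Fin d → R) :
    ∃ u : Fin d → R[X], ∀ i, (fun j => (u j).eval (θ i)) = a i := by
  classical
  have hc := fun i => (isUnit_c θ hθ i).exists_left_inv
  choose b hb using hc
  refine ⟨fun j => ∑ l, Polynomial.C (b l * a l j) * ∏ k ∈ Finset.univ.erase l,
    (X - Polynomial.C (θ k)), ?_⟩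
  intro i
  ext1 j
  rw [Polynomial.eval_finsetSum, Finset.sum_eq_single i]
  · rw [Polynomial.eval_mul, Polynomial.eval_C, Polynomial.eval_prod]
    simp only [Polynomial.eval_sub, Polynomial.eval_X, Polynomial.eval_C]
    calc b i * a i j * ∏ k ∈ Finset.univ.erase i, (θ i - θ k)
        = (b i * ∏ k ∈ Finset.univ.erase i, (θ i - θ k)) * a i j := by ring
      _ = a i j := by rw [hb, one_mul]
  · intro l _ hl
    rw [Polynomial.eval_mul, Polynomial.eval_prod,
      Finset.prod_eq_zero (i := i) (Finset.mem_erase.2 ⟨hl.symm, Finset.mem_univ i⟩) (by simp),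
      mul_zero]
  · intro h; exact absurd (Finset.mem_univ i) h

theorem main2 {d r : ℕ} (θ : Fin r → R)
    (hθ : ∀ i k, i ≠ k → IsUnit (θ i - θ k))
    (Θ : R[X]) (hΘ : Θ = ∏ i, (X - Polynomial.C (θ i)))
    (D₀ : (Fin d → R[X]) →+ (Fin d → R[X]))
    (hD₀ : ∀ (p : R[X]) (v : Fin d → R[X]),
      D₀ (p • v) = (Θ * Polynomial.derivative p) • v + p • D₀ v)
    (D : (Fin d → Localization.Away Θ) →+ (Fin d → Localization.Away Θ))
    (hD : ∀ (p : R[X]) (w : Fin d → Localization.Away Θ),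
      D (p • w) = (Θ * Polynomial.derivative p) • w + p • D w)
    (hDD₀ : ∀ v : Fin d → R[X],
      D (fun j => algebraMap R[X] (Localization.Away Θ) (v j)) =
        fun j => algebraMap R[X] (Localization.Away Θ) (D₀ v j))
    (Res : Fin r → ((Fin d → R) →ₗ[R] (Fin d → R)))
    (hRes : ∀ (i : Fin r) (m : Fin d → R) (j : Fin d),
      (D₀ (fun j => Polynomial.C (m j)) j).eval (θ i) =
        (∏ k ∈ Finset.univ.erase i, (θ i - θ k)) * Res i m j)
    (hχ : ∀ i : Fin r, ∃ χ : ℂ[X], (Res i).charpoly = χ.map (algebraMap ℂ R) ∧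
      ∀ n : ℤ, n ≠ 0 → χ.eval (n : ℂ) ≠ 0) (n : ℕ) :
    ∀ (w : Fin d → Localization.Away Θ) (v : Fin d → R[X]),
      Θ ^ n • w = (fun j => algebraMap R[X] (Localization.Away Θ) (v j)) →
    ∃ (w' : Fin d → Localization.Away Θ) (v : Fin d → R[X]),
      w = D w' + fun j => algebraMap R[X] (Localization.Away Θ) (v j) := by
  induction n with
  | zero =>
    intro w v hv
    rw [pow_zero, one_smul] at hv
    exact ⟨0, v, by rw [map_zero, zero_add]; exact hv⟩
  | succ n ih =>
    intro w v hv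
    have hc := fun i => (isUnit_c θ hθ i).exists_right_inv
    choose b hb using hc
    have hT := fun i => (isUnit_res (Res i) (hχ i) n).exists_right_inv
    choose T hT using hT
    obtain ⟨u, hu⟩ := interp (d := d) θ hθ (fun i => T i (b i • fun j => (v j).eval (θ i)))
    obtain ⟨w₁, hw₁⟩ := exists_div Θ (n + 1) u
    have h1 := pow_smul_D Θ D₀ D hD hDD₀ (n + 1) w₁ u hw₁
    have h2 : ∀ j, Θ ∣ (v - (D₀ u - (((n + 1 : ℕ) : R[X]) * Polynomial.derivative Θ) • u)) j := by
      intro j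
      rw [hΘ]
      apply prod_dvd θ hθ
      rw [← hΘ]
      intro i
      have h4 := eval_op θ Θ hΘ D₀ hD₀ Res hRes (n + 1) u i
      rw [hu i, ← Module.End.mul_apply, hT i, Module.End.one_apply, smul_smul, hb i, one_smul] at h4
      rw [Pi.sub_apply, Polynomial.eval_sub, congrFun h4 j, sub_self]
    choose v' hv' using h2
    obtain ⟨w₂, v₂, h3⟩ := ih (w - D w₁) v' (by
      apply smul_cancel Θ 1
      rw [← mul_smul, pow_one, ← pow_succ', smul_sub, hv, h1]
      ext1 j
      rw [Pi.sub_apply, ← map_sub, ← Pi.sub_apply, hv' j, Pi.smul_apply, Algebra.smul_def, map_mul])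
    refine ⟨w₁ + w₂, v₂, ?_⟩
    rw [map_add, add_assoc, ← h3]
    abel

end

end K87.LogDeriv
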