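import Mathlib.RingTheory.Flat.Equalizer
import Mathlib.LinearAlgebra.TensorProduct.Quotient
import Mathlib.LinearAlgebra.TensorProduct.RightExactness
import Mathlib.LinearAlgebra.TensorProduct.Tower
import Mathlib.RingTheory.LocalRing.ResidueField.Basic
import Mathlib.RingTheory.Artinian.Ring
import Mathlib.LinearAlgebra.Basis.VectorSpace

/-!
# Flatness over a local ring with nilpotent maximal ideal

The main result: if `R` is flat and `u : C → R` is injective modulo the maximal ideal then `u` is
injective and `C` and `R / u(C)` are free.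
-/

set_option autoImplicit false
open TensorProduct
universe u v w w'

namespace K87.NilFlat

/-- Nakayama for a nilpotent ideal. -/
theorem eq_top_of_sup_smul {A : Type u} [CommRing A] (I : Ideal A) (hI : IsNilpotent I)
    {M : Type v} [AddCommGroup M] [Module A M] (N : Submodule A M)
    (h : N ⊔ I • (⊤ : Submodule A M) = ⊤) : N = ⊤ := by
  obtain ⟨n, hn⟩ := hI
  have key : ∀ k : ℕ, N ⊔ (I ^ k) • (⊤ : Submodule A M) = ⊤ := by
    intro k
    induction k with
    | zero => simp
    | succ k ih =>
      apply top_le_iff.mp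
      calc (⊤ : Submodule A M) = N ⊔ (I ^ k) • (⊤ : Submodule A M) := ih.symm
        _ = N ⊔ (I ^ k) • (N ⊔ I • (⊤ : Submodule A M)) := by rw [h]
        _ ≤ N ⊔ (I ^ (k + 1)) • (⊤ : Submodule A M) := by
          rw [Submodule.smul_sup, ← sup_assoc, ← Submodule.mul_smul, ← pow_succ]
          exact sup_le_sup_right (sup_le le_rfl Submodule.smul_le_right) _
  have := key n
  rw [hn] at this
  simpa using this

/-- If `M / I M = 0` with `I` nilpotent then `M = 0`. -/
theorem subsingleton_of_baseChange {A : Type u} [CommRing A] (I : Ideal A) (hI : IsNilpotent I)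
    {M : Type v} [AddCommGroup M] [Module A M]
    (h : Subsingleton ((A ⧸ I) ⊗[A] M)) : Subsingleton M := by
  have h1 : Subsingleton (M ⧸ (I • (⊤ : Submodule A M))) :=
    (quotTensorEquivQuotSMul M I).symm.injective.subsingleton
  have h2 : I • (⊤ : Submodule A M) = ⊤ := Submodule.Quotient.subsingleton_iff.mp h1
  have h3 : (⊥ : Submodule A M) = ⊤ := eq_top_of_sup_smul I hI ⊥ (by simpa using h2)
  exact (Submodule.subsingleton_iff A).mp (subsingleton_of_bot_eq_top h3)

theorem surjective_of_baseChange {A : Type u} [CommRing A] (I : Ideal A) (hI : IsNilpotent I)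
    {P : Type v} {P' : Type w} [AddCommGroup P] [Module A P]
    [AddCommGroup P'] [Module A P'] (f : P →ₗ[A] P')
    (hf : Function.Surjective (f.lTensor (A ⧸ I))) : Function.Surjective f := by
  rw [← LinearMap.range_eq_top, ← Submodule.Quotient.subsingleton_iff]
  apply subsingleton_of_baseChange I hI
  have hex := lTensor_exact (A ⧸ I) (f := f) (g := (LinearMap.range f).mkQ)
    (LinearMap.exact_map_mkQ_range f) (Submodule.mkQ_surjective _)
  have hsur := LinearMap.lTensor_surjective (A ⧸ I) (Submodule.mkQ_surjective (LinearMap.range f))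
  refine ⟨fun a b => ?_⟩
  have h0 : ∀ c, c = (0 : (A ⧸ I) ⊗[A] (P' ⧸ LinearMap.range f)) := by
    intro c
    obtain ⟨c', rfl⟩ := hsur c
    obtain ⟨c'', rfl⟩ := hf c'
    exact hex.apply_apply_eq_zero c''
  rw [h0 a, h0 b]

/-- A map to a flat module that is bijective modulo a nilpotent ideal is bijective. -/
theorem bijective_of_baseChange {A : Type u} [CommRing A] (I : Ideal A) (hI : IsNilpotent I)
    {P : Type v} {P' : Type w} [AddCommGroup P] [Module A P]
    [AddCommGroup P'] [Module A P'] [Module.Flat A P'] (f : P →ₗ[A] P')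
    (hf : Function.Bijective (f.lTensor (A ⧸ I))) : Function.Bijective f := by
  have hs : Function.Surjective f := surjective_of_baseChange I hI f hf.2
  refine ⟨?_, hs⟩
  rw [← LinearMap.ker_eq_bot, Submodule.eq_bot_iff]
  have hK : Subsingleton (LinearMap.ker f) := by
    apply subsingleton_of_baseChange I hI
    have hinj := LinearMap.lTensor_injective_of_exact_of_flat f hs (LinearMap.ker f).subtype
      (Submodule.subtype_injective _) (LinearMap.exact_subtype_ker_map f) (A ⧸ I)
    refine ⟨fun a b => ?_⟩
    apply hinj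
    apply hf.1
    rw [← LinearMap.comp_apply, ← LinearMap.comp_apply, ← LinearMap.lTensor_comp]
    have h0 : f ∘ₗ (LinearMap.ker f).subtype = 0 := by
      ext x
      exact x.2
    rw [h0]
    simp
  intro x hx
  have := Subsingleton.elim (⟨x, hx⟩ : LinearMap.ker f) 0
  simpa using congrArg Subtype.val this

/-- Every module over a local ring admits a map from a free module which is bijective
modulo the maximal ideal. -/
theorem exists_free_bijective (A : Type u) [CommRing A] [IsLocalRing A]
    (M : Type v) [AddCommGroup M] [Module A M] :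
    ∃ (ι : Type (max u v)) (φ : (ι →₀ A) →ₗ[A] M),
      Function.Bijective (φ.lTensor (IsLocalRing.ResidueField A)) := by
  classical
  let b := Module.Free.chooseBasis (IsLocalRing.ResidueField A) ((IsLocalRing.ResidueField A) ⊗[A] M)
  have hsurj : Function.Surjective (TensorProduct.mk A (IsLocalRing.ResidueField A) M 1) := by
    intro x
    induction x with
    | zero => exact ⟨0, map_zero _⟩
    | tmul a y =>
      obtain ⟨a, rfl⟩ := IsLocalRing.residue_surjective a
      refine ⟨a • y, ?_⟩
      rw [TensorProduct.mk_apply, ← TensorProduct.smul_tmul, Algebra.smul_def, mul_one]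
      rfl
    | add x y hx hy =>
      obtain ⟨x, rfl⟩ := hx
      obtain ⟨y, rfl⟩ := hy
      exact ⟨x + y, map_add _ _ _⟩
  choose c hc using fun i => hsurj (b i)
  refine ⟨_, Finsupp.linearCombination A c, ?_⟩
  have h1 := Finsupp.linearCombination_one_tmul (R := A) (S := IsLocalRing.ResidueField A) (v := c)
  have h2 : (fun i => (1 : IsLocalRing.ResidueField A) ⊗ₜ[A] c i) = b := funext hc
  rw [h2] at h1
  have h3 : ⇑((Finsupp.linearCombination A c).lTensor (IsLocalRing.ResidueField A)) =
      ⇑(Finsupp.linearCombination (IsLocalRing.ResidueField A) b) ∘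
        ⇑(TensorProduct.finsuppScalarRight A A (IsLocalRing.ResidueField A) _) := by
    ext x
    have h4 := LinearMap.congr_fun h1 (TensorProduct.finsuppScalarRight A A (IsLocalRing.ResidueField A) _ x)
    simp only [LinearMap.coe_restrictScalars, LinearMap.comp_apply, LinearEquiv.coe_coe,
      LinearEquiv.symm_apply_apply] at h4
    exact h4.symm
  rw [h3]
  refine Function.Bijective.comp ?_ (LinearEquiv.bijective _)
  have h5 : ⇑(Finsupp.linearCombination (IsLocalRing.ResidueField A) b) = ⇑b.repr.symm := by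
    ext x
    rw [Module.Basis.repr_symm_apply]
  rw [h5]
  exact b.repr.symm.bijective

/-- Key lemma: over a local ring with nilpotent maximal ideal, a map `u : C → R` to a flat module
which is injective modulo the maximal ideal is injective, and `C` and `R / u(C)` are flat
(even free). -/
theorem key (A : Type u) [CommRing A] [IsLocalRing A] (hA : IsNilpotent (IsLocalRing.maximalIdeal A))
    {C : Type v} {R : Type w} [AddCommGroup C] [Module A C] [AddCommGroup R] [Module A R]
    [Module.Flat A R] (u : C →ₗ[A] R)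
    (hu : Function.Injective (u.lTensor (IsLocalRing.ResidueField A))) :
    Function.Injective u ∧ Module.Free A C ∧ Module.Free A (R ⧸ LinearMap.range u) := by
  classical
  obtain ⟨ι, φ, hφ⟩ := exists_free_bijective A C
  obtain ⟨κ, χ, hχ⟩ := exists_free_bijective A (R ⧸ LinearMap.range u)
  have hφs : Function.Surjective φ := surjective_of_baseChange _ hA φ hφ.2
  have hχs : Function.Surjective χ := surjective_of_baseChange _ hA χ hχ.2
  obtain ⟨χ', hχ'⟩ := Module.projective_lifting_property (LinearMap.range u).mkQ χ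
    (Submodule.mkQ_surjective _)
  -- the map `ψ = (u ∘ φ, χ')` is bijective
  let ψ : ((ι →₀ A) × (κ →₀ A)) →ₗ[A] R := (u ∘ₗ φ).coprod χ'
  have hψs : Function.Surjective ψ := by
    intro r
    obtain ⟨y, hy⟩ := hχs ((LinearMap.range u).mkQ r)
    have h1 : (LinearMap.range u).mkQ (r - χ' y) = 0 := by
      rw [map_sub, ← hy, ← hχ']; simp
    rw [Submodule.mkQ_apply, Submodule.Quotient.mk_eq_zero] at h1
    obtain ⟨c, hc⟩ := h1
    obtain ⟨x, rfl⟩ := hφs c
    exact ⟨(x, y), by simp [ψ, hc]⟩
  have hψi : Function.Injective (ψ.lTensor (IsLocalRing.ResidueField A)) := by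
    rw [injective_iff_map_eq_zero]
    intro z hz
    let K := IsLocalRing.ResidueField A
    -- decompose z
    have hdec : z = (LinearMap.inl A (ι →₀ A) (κ →₀ A)).lTensor K
          ((LinearMap.fst A (ι →₀ A) (κ →₀ A)).lTensor K z) +
        (LinearMap.inr A (ι →₀ A) (κ →₀ A)).lTensor K
          ((LinearMap.snd A (ι →₀ A) (κ →₀ A)).lTensor K z) := by
      rw [← LinearMap.comp_apply, ← LinearMap.comp_apply, ← LinearMap.lTensor_comp,
        ← LinearMap.lTensor_comp, ← LinearMap.add_apply, ← LinearMap.lTensor_add]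
      have : (LinearMap.inl A (ι →₀ A) (κ →₀ A)) ∘ₗ (LinearMap.fst A (ι →₀ A) (κ →₀ A)) +
          (LinearMap.inr A (ι →₀ A) (κ →₀ A)) ∘ₗ (LinearMap.snd A (ι →₀ A) (κ →₀ A)) =
          LinearMap.id := by
        ext <;> simp
      rw [this, LinearMap.lTensor_id]; rfl
    obtain ⟨z₁, hz₁⟩ : ∃ z₁, z₁ = (LinearMap.fst A (ι →₀ A) (κ →₀ A)).lTensor K z := ⟨_, rfl⟩
    obtain ⟨z₂, hz₂⟩ : ∃ z₂, z₂ = (LinearMap.snd A (ι →₀ A) (κ →₀ A)).lTensor K z := ⟨_, rfl⟩
    rw [← hz₁, ← hz₂] at hdec
    have hsum : ψ.lTensor K z = (u.lTensor K) (φ.lTensor K z₁) + χ'.lTensor K z₂ := by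
      conv_lhs => rw [hdec]
      rw [map_add, ← LinearMap.comp_apply (ψ.lTensor K), ← LinearMap.lTensor_comp,
        ← LinearMap.comp_apply (ψ.lTensor K),
        ← LinearMap.lTensor_comp, LinearMap.coprod_inl, LinearMap.coprod_inr, LinearMap.lTensor_comp]
      rfl
    have hz₂0 : z₂ = 0 := by
      apply hχ.1
      rw [map_zero, ← hχ', LinearMap.lTensor_comp, LinearMap.comp_apply]
      have h1 : χ'.lTensor K z₂ = - (u.lTensor K) (φ.lTensor K z₁) := by
        rw [hz] at hsum
        exact (neg_eq_of_add_eq_zero_right hsum.symm).symm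
      rw [h1, map_neg, ← LinearMap.comp_apply, ← LinearMap.lTensor_comp]
      have h2 : (LinearMap.range u).mkQ ∘ₗ u = 0 := LinearMap.range_mkQ_comp u
      rw [h2]; simp
    have hz₁0 : z₁ = 0 := by
      apply hφ.1
      apply hu
      rw [hz₂0, map_zero, add_zero, hz] at hsum
      rw [map_zero, map_zero, ← hsum]
    rw [hdec, hz₁0, hz₂0, map_zero, map_zero, add_zero]
  have hψb : Function.Bijective ψ := bijective_of_baseChange _ hA ψ
    ⟨hψi, LinearMap.lTensor_surjective _ hψs⟩
  have huφ : Function.Injective (u ∘ₗ φ) := by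
    have : u ∘ₗ φ = ψ ∘ₗ LinearMap.inl A (ι →₀ A) (κ →₀ A) := by
      rw [LinearMap.coprod_inl]
    rw [this]
    exact hψb.1.comp LinearMap.inl_injective
  have hφb : Function.Bijective φ := ⟨Function.Injective.of_comp huφ, hφs⟩
  have hui : Function.Injective u := by
    intro a b hab
    obtain ⟨a, rfl⟩ := hφs a
    obtain ⟨b, rfl⟩ := hφs b
    rw [huφ hab]
  refine ⟨hui, Module.Free.of_equiv (LinearEquiv.ofBijective φ hφb), ?_⟩
  have hχb : Function.Bijective χ := by
    refine ⟨?_, hχs⟩
    rw [injective_iff_map_eq_zero]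
    intro y hy
    have h1 : (LinearMap.range u).mkQ (χ' y) = 0 := by
      rw [← hy, ← hχ']; rfl
    rw [Submodule.mkQ_apply, Submodule.Quotient.mk_eq_zero] at h1
    obtain ⟨c, hc⟩ := h1
    obtain ⟨x, rfl⟩ := hφs c
    have h2 : ψ (-x, y) = 0 := by
      simp [ψ, hc]
    have h3 := hψb.1 (h2.trans (map_zero ψ).symm)
    exact congrArg Prod.snd h3
  exact Module.Free.of_equiv (LinearEquiv.ofBijective χ hχb)

/-- If `P → Q → R` is a complex, `R` flat, exact in the middle modulo the maximal ideal, then it is exact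
and `R / g(Q)` is free. -/
theorem exact_of_residueField (A : Type u) [CommRing A] [IsLocalRing A]
    (hA : IsNilpotent (IsLocalRing.maximalIdeal A))
    {P : Type w'} {Q : Type v} {R : Type w} [AddCommGroup P] [Module A P] [AddCommGroup Q] [Module A Q]
    [AddCommGroup R] [Module A R] [Module.Flat A R] (f : P →ₗ[A] Q) (g : Q →ₗ[A] R)
    (hfg : g ∘ₗ f = 0)
    (hred : Function.Exact (f.lTensor (IsLocalRing.ResidueField A))
      (g.lTensor (IsLocalRing.ResidueField A))) :
    Function.Exact f g ∧ Module.Free A (R ⧸ LinearMap.range g) := by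
  have hle : LinearMap.range f ≤ LinearMap.ker g := LinearMap.range_le_ker_iff.2 hfg
  let u : (Q ⧸ LinearMap.range f) →ₗ[A] R := (LinearMap.range f).liftQ g hle
  have hu : Function.Injective (u.lTensor (IsLocalRing.ResidueField A)) := by
    rw [injective_iff_map_eq_zero]
    intro z hz
    obtain ⟨q, rfl⟩ := LinearMap.lTensor_surjective (IsLocalRing.ResidueField A)
      (Submodule.mkQ_surjective (LinearMap.range f)) z
    rw [← LinearMap.comp_apply, ← LinearMap.lTensor_comp] at hz
    have h1 : u ∘ₗ (LinearMap.range f).mkQ = g := Submodule.liftQ_mkQ _ _ _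
    rw [h1] at hz
    obtain ⟨p, rfl⟩ := (hred q).1 hz
    rw [← LinearMap.comp_apply, ← LinearMap.lTensor_comp, LinearMap.range_mkQ_comp]
    simp
  obtain ⟨h1, -, h3⟩ := key A hA u hu
  constructor
  · rw [LinearMap.exact_iff]
    refine le_antisymm ?_ hle
    intro q hq
    rw [LinearMap.mem_ker] at hq
    have h4 : u ((LinearMap.range f).mkQ q) = u 0 := by
      rw [map_zero, ← hq]; rfl
    have h5 := h1 h4
    rwa [Submodule.mkQ_apply, Submodule.Quotient.mk_eq_zero] at h5
  · have h4 : LinearMap.range u = LinearMap.range g := Submodule.range_liftQ _ _ _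
    rwa [h4] at h3

/-- The maximal ideal of an Artinian local ring is nilpotent. -/
theorem isNilpotent_maximalIdeal (A : Type u) [CommRing A] [IsLocalRing A] [IsArtinianRing A] :
    IsNilpotent (IsLocalRing.maximalIdeal A) := by
  have h := (IsArtinianRing.isNilpotent_jacobson_bot (R := A))
  rwa [IsLocalRing.jacobson_eq_maximalIdeal ⊥ bot_ne_top] at h

end K87.NilFlat
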