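import Mathlib.LinearAlgebra.Matrix.SchurComplement
import Mathlib.LinearAlgebra.Matrix.Charpoly.Basic
import Mathlib.RingTheory.Polynomial.UniqueFactorization
import Mathlib.RingTheory.Polynomial.RationalRoot
import Mathlib.RingTheory.Localization.FractionRing

/-!
# The determinant of a skew-symmetric matrix is the square of a universal polynomial
-/

set_option autoImplicit false

universe u v w

namespace K87.SkewSq

open Matrix

/-- Over a field with `2 ≠ 0` the determinant of a skew-symmetric matrix is a square. -/
theorem exists_sq_field {K : Type v} [Field K] (h2 : (2 : K) ≠ 0) (N : ℕ) :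
    ∀ {n : Type u} [Fintype n] [DecidableEq n] (_ : Fintype.card n = N) (B : Matrix n n K)
      (_ : Bᵀ = -B), ∃ c : K, B.det = c ^ 2 := by
  induction N using Nat.strong_induction_on with
  | _ N ih =>
    intro n _ _ hn B hB
    have hBt : ∀ i j, B j i = - B i j := fun i j => by
      have := congrFun (congrFun hB i) j
      simpa using this
    by_cases h0 : B = 0
    · subst h0
      rcases isEmpty_or_nonempty n with he | hne
      · exact ⟨1, by simp⟩
      · exact ⟨0, by rw [Matrix.det_zero]; simp⟩
    · obtain ⟨i, j, hij⟩ : ∃ i j, B i j ≠ 0 := by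
        by_contra hcon
        push Not at hcon
        exact h0 (by ext i j; exact hcon i j)
      have hdiag : ∀ i, B i i = 0 := fun i => by
        have h1 : 2 * B i i = 0 := by
          have := hBt i i
          linear_combination this
        exact (mul_eq_zero.1 h1).resolve_left h2
      have hne : i ≠ j := by
        rintro rfl
        exact hij (hdiag i)
      -- the splitting of the index set
      let f : Fin 2 ⊕ {k : n // k ≠ i ∧ k ≠ j} → n := Sum.elim ![i, j] Subtype.val
      have hf : Function.Bijective f := by
        constructor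
        · rintro (a | a) (b | b) hab
          · congr 1
            have hab' : (![i, j] : Fin 2 → n) a = ![i, j] b := hab
            fin_cases a <;> fin_cases b
            · rfl
            · exact absurd (by simpa using hab') hne
            · exact absurd (by simpa using hab'.symm) hne
            · rfl
          · exfalso
            have h1 := b.2.1
            have h2 := b.2.2
            fin_cases a
            · exact h1 (by simpa [f] using hab.symm)
            · exact h2 (by simpa [f] using hab.symm)
          · exfalso
            have h1 := a.2.1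
            have h2 := a.2.2
            fin_cases b
            · exact h1 (by simpa [f] using hab)
            · exact h2 (by simpa [f] using hab)
          · congr 1
            exact Subtype.ext hab
        · intro k
          by_cases hki : k = i
          · exact ⟨Sum.inl 0, by simp [f, hki]⟩
          · by_cases hkj : k = j
            · exact ⟨Sum.inl 1, by simp [f, hkj]⟩
            · exact ⟨Sum.inr ⟨k, hki, hkj⟩, rfl⟩
      let e : Fin 2 ⊕ {k : n // k ≠ i ∧ k ≠ j} ≃ n := Equiv.ofBijective f hf
      let M := B.submatrix e e
      have hMdet : M.det = B.det := det_submatrix_equiv_self e B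
      have hMt : Mᵀ = -M := by
        rw [transpose_submatrix, hB]; rfl
      have hMb : fromBlocks M.toBlocks₁₁ M.toBlocks₁₂ M.toBlocks₂₁ M.toBlocks₂₂ = M :=
        fromBlocks_toBlocks M
      have ht := hMt
      rw [← hMb, fromBlocks_transpose, fromBlocks_neg, fromBlocks_inj] at ht
      obtain ⟨t11, t21, t12, t22⟩ := ht
      have hdet11 : M.toBlocks₁₁.det = (B i j) ^ 2 := by
        rw [det_fin_two]
        have e0 : e (Sum.inl 0) = i := rfl
        have e1 : e (Sum.inl 1) = j := rfl
        simp only [toBlocks₁₁, of_apply, M, submatrix_apply, e0, e1, hdiag, hBt i j]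
        ring
      have hu : IsUnit M.toBlocks₁₁.det := by
        rw [hdet11]
        exact (pow_ne_zero 2 hij).isUnit
      let := invertibleOfIsUnitDet _ hu
      have hdet := det_fromBlocks₁₁ M.toBlocks₁₁ M.toBlocks₁₂ M.toBlocks₂₁ M.toBlocks₂₂
      rw [hMb, hMdet, hdet11] at hdet
      have hcard : Fintype.card {k : n // k ≠ i ∧ k ≠ j} < N := by
        have h1 := Fintype.card_congr e
        rw [Fintype.card_sum, hn, Fintype.card_fin] at h1
        omega
      have hinvt : (⅟M.toBlocks₁₁)ᵀ = -(⅟M.toBlocks₁₁) := by
        rw [invOf_eq_nonsing_inv, transpose_nonsing_inv, t11]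
        rw [← neg_one_smul K M.toBlocks₁₁, ← neg_one_smul K (M.toBlocks₁₁)⁻¹]
        have : (-1 : K) = ((-1 : Kˣ) : K) := by simp
        rw [this]
        rw [show ((-1 : Kˣ) : K) • M.toBlocks₁₁ = (-1 : Kˣ) • M.toBlocks₁₁ from rfl,
          Matrix.inv_smul' M.toBlocks₁₁ (-1 : Kˣ) hu]
        simp
      obtain ⟨c, hc⟩ := ih _ hcard rfl
        (M.toBlocks₂₂ - M.toBlocks₂₁ * ⅟M.toBlocks₁₁ * M.toBlocks₁₂) (by
          rw [transpose_sub, transpose_mul, transpose_mul, t22, t12, t21, hinvt]
          simp only [Matrix.neg_mul, Matrix.mul_neg, neg_neg]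
          rw [← Matrix.mul_assoc]
          abel)
      exact ⟨B i j * c, by rw [hdet, hc]; ring⟩

/-- The determinant of a skew-symmetric matrix is the square of a universal polynomial. -/
theorem exists_universal (k : Type v) [Field k] (h2 : (2 : k) ≠ 0) (n : Type u) [Fintype n]
    [DecidableEq n] :
    ∃ q : MvPolynomial (n × n) k, ∀ (S : Type w) [CommRing S] [Algebra k S] (B : Matrix n n S),
      Bᵀ = -B → B.det = (MvPolynomial.aeval (fun ij : n × n => (2⁻¹ : k) • B ij.1 ij.2) q) ^ 2 := by
  let R := MvPolynomial (n × n) k
  let G : Matrix n n R := Matrix.of fun i j => MvPolynomial.X (i, j) - MvPolynomial.X (j, i)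
  have hGa : ∀ i j, G i j = MvPolynomial.X (i, j) - MvPolynomial.X (j, i) := fun i j => rfl
  have hG : Gᵀ = -G := by
    ext1 i j
    rw [transpose_apply, Matrix.neg_apply, hGa, hGa, neg_sub]
  let K := FractionRing R
  have h2K : (2 : K) ≠ 0 := by
    have : (2 : K) = algebraMap R K (MvPolynomial.C 2) := by
      rw [map_ofNat, map_ofNat]
    rw [this]
    intro h
    rw [IsFractionRing.to_map_eq_zero_iff, MvPolynomial.C_eq_zero] at h
    exact h2 h
  obtain ⟨c, hc⟩ := exists_sq_field h2K _ rfl (G.map (algebraMap R K)) (by
    ext1 i j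
    rw [transpose_apply, Matrix.neg_apply, map_apply, map_apply, hGa, hGa, ← map_neg, neg_sub])
  rw [← RingHom.mapMatrix_apply, ← RingHom.map_det] at hc
  have hint : IsIntegral R c := by
    refine ⟨Polynomial.X ^ 2 - Polynomial.C G.det, Polynomial.monic_X_pow_sub_C _ (by norm_num), ?_⟩
    simp [hc]
  obtain ⟨q, rfl⟩ := (IsIntegrallyClosed.isIntegral_iff (R := R)).1 hint
  rw [← map_pow] at hc
  have hq : G.det = q ^ 2 := IsFractionRing.injective R K hc
  refine ⟨q, fun S _ _ B hB => ?_⟩
  let φ : R →ₐ[k] S := MvPolynomial.aeval (fun ij : n × n => (2⁻¹ : k) • B ij.1 ij.2)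
  have hBt : ∀ i j, B j i = - B i j := fun i j => by
    have := congrFun (congrFun hB i) j
    simpa using this
  have h1 : (φ : R →+* S).mapMatrix G = B := by
    ext1 i j
    rw [RingHom.mapMatrix_apply, map_apply, hGa, RingHom.coe_coe, map_sub, MvPolynomial.aeval_X,
      MvPolynomial.aeval_X, hBt i j, smul_neg, sub_neg_eq_add, ← add_smul]
    have : (2⁻¹ : k) + 2⁻¹ = 1 := by
      rw [← two_mul, mul_inv_cancel₀ h2]
    rw [this, one_smul]
  rw [← h1, ← RingHom.map_det, hq, map_pow, h1]
  rfl

end K87.SkewSq
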