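import Mathlib.RingTheory.Valuation.Extension
import Mathlib.RingTheory.Valuation.RankOne
import Mathlib.Topology.Algebra.Valued.ValuedField
import Mathlib.Topology.Algebra.UniformRing
import Mathlib.RingTheory.AdicCompletion.Basic
import Mathlib.RingTheory.Localization.Away.Basic
import Mathlib.Topology.Algebra.Valued.LocallyCompact

/-!
Completions of rank one valued fields: algebraic facts about the valuation rings.
-/

set_option autoImplicit false
universe u
open UniformSpace

namespace K87.ValuedCompl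

section Arch

variable {K Γ₀ : Type*} [Field K] [LinearOrderedCommGroupWithZero Γ₀]

theorem arch (v : Valuation K Γ₀) [v.RankOne] (x y : K) (hx : v x < 1) (hy : y ≠ 0) :
    ∃ n : ℕ, v x ^ n < v y := by
  have h1 : Valuation.RankOne.hom v (v.restrict x) < 1 := by
    rw [← map_one (Valuation.RankOne.hom v)]
    apply Valuation.RankOne.strictMono v
    rw [← map_one v.restrict, v.restrict_lt_iff, map_one]
    exact hx
  have h2 : Valuation.RankOne.hom v (v.restrict y) ≠ 0 := by
    rw [Ne, Valuation.RankOne.hom_eq_zero_iff]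
    exact (Valuation.ne_zero_iff _).mpr hy
  obtain ⟨n, hn⟩ := exists_pow_lt_of_lt_one (pos_iff_ne_zero.2 h2) h1
  refine ⟨n, ?_⟩
  rw [← map_pow, (Valuation.RankOne.strictMono v).lt_iff_lt, ← map_pow, v.restrict_lt_iff,
    map_pow] at hn
  exact hn

theorem exists_elem (v : Valuation K Γ₀) [v.RankOne] : ∃ a : K, a ≠ 0 ∧ v a < 1 := by
  obtain ⟨r, hr0, hr1⟩ := Valuation.RankOne.nontrivial v
  have hr : r ≠ 0 := fun h => hr0 (by rw [h, map_zero])
  rcases lt_or_gt_of_ne hr1 with h | h
  · exact ⟨r, hr, h⟩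
  · refine ⟨r⁻¹, inv_ne_zero hr, ?_⟩
    rw [map_inv₀]
    exact inv_lt_one_of_one_lt₀ h

end Arch

section Valued

variable {K Γ₀ : Type*} [Field K] [LinearOrderedCommGroupWithZero Γ₀] [hK : Valued K Γ₀]

local notation "hat " => Completion

theorem isOpen_le {F : Type*} [Field F] [hF : Valued F Γ₀] (c a : F) (ha : a ≠ 0) :
    IsOpen {x : F | Valued.v (x - c) ≤ Valued.v a} := by
  have h1 : IsOpen {x : F | hF.v.restrict x ≤ hF.v.restrict a} :=
    Valued.isOpen_closedBall F ((Valuation.ne_zero_iff _).mpr ha)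
  have h2 : IsOpen ((fun x : F => x - c) ⁻¹' {x : F | hF.v.restrict x ≤ hF.v.restrict a}) :=
    h1.preimage (continuous_sub_right c)
  convert! h2 using 1
  ext x
  simp only [Set.mem_preimage, Set.mem_ofPred_eq, hF.v.restrict_le_iff]

theorem isClosed_le {F : Type*} [Field F] [hF : Valued F Γ₀] (c a : F) :
    IsClosed {x : F | Valued.v (x - c) ≤ Valued.v a} := by
  have h1 : IsClosed {x : F | hF.v.restrict x ≤ hF.v.restrict a} :=
    Valued.isClosed_closedBall F _
  have h2 : IsClosed ((fun x : F => x - c) ⁻¹' {x : F | hF.v.restrict x ≤ hF.v.restrict a}) :=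
    h1.preimage (continuous_sub_right c)
  convert! h2 using 1
  ext x
  simp only [Set.mem_preimage, Set.mem_ofPred_eq, hF.v.restrict_le_iff]

theorem dense (x : hat K) (a : K) (ha : a ≠ 0) :
    ∃ y : K, Valued.v (x - (y : hat K)) ≤ Valued.v a := by
  have ha' : (a : hat K) ≠ 0 := by
    intro h
    exact ha ((Completion.coe_inj).1 (by rw [h, Completion.coe_zero]))
  have h1 := isOpen_le x (a : hat K) ha'
  obtain ⟨y, hy⟩ := Completion.denseRange_coe.exists_mem_open h1 ⟨x, by simp⟩
  refine ⟨y, ?_⟩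
  rw [Valuation.map_sub_swap, ← Valued.valuedCompletion_apply a]
  exact hy

theorem exists_coe (x : hat K) : ∃ r : K, Valued.v x = Valued.v r :=
  Valued.exists_coe_eq_v x

theorem arch' [hK.v.RankOne] (x : hat K) (y : hat K) (hx : Valued.v x < (1 : Γ₀)) (hy : y ≠ 0) :
    ∃ n : ℕ, Valued.v x ^ n < (Valued.v y : Γ₀) := by
  obtain ⟨r, hr⟩ := exists_coe x
  obtain ⟨s, hs⟩ := exists_coe y
  rw [hr, hs]
  apply arch
  · rw [← hr]; exact hx
  · intro h
    rw [h, map_zero, map_eq_zero] at hs
    exact hy hs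

theorem mem_pow_smul {R M : Type*} [CommRing R] [AddCommGroup M] [Module R M] (r : R) (n : ℕ)
    (x : M) : x ∈ ((Ideal.span {r}) ^ n • (⊤ : Submodule R M)) ↔ ∃ z : M, x = r ^ n • z := by
  rw [Ideal.span_singleton_pow, Submodule.ideal_span_singleton_smul,
    Submodule.mem_smul_pointwise_iff_exists]
  constructor
  · rintro ⟨z, _, hz⟩; exact ⟨z, hz.symm⟩
  · rintro ⟨z, hz⟩; exact ⟨z, trivial, hz.symm⟩

theorem isHausdorff [hK.v.RankOne] {R : Type*} [CommRing R]
    [Algebra R (Valued.v : Valuation (hat K) Γ₀).valuationSubring] (r : R)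
    (h : Valued.v ((algebraMap R (Valued.v : Valuation (hat K) Γ₀).valuationSubring r : hat K)) <
      (1 : Γ₀)) :
    IsHausdorff (Ideal.span {r}) (Valued.v : Valuation (hat K) Γ₀).valuationSubring := by
  constructor
  intro x hx
  by_contra hx0
  have hx0' : (x : hat K) ≠ 0 := fun h => hx0 (Subtype.ext h)
  obtain ⟨n, hn⟩ := arch' _ (x : hat K) h hx0'
  have h1 := hx n
  rw [SModEq.zero, mem_pow_smul] at h1
  obtain ⟨z, hz⟩ := h1
  have h2 : (x : hat K) = (algebraMap R (Valued.v : Valuation (hat K) Γ₀).valuationSubring r :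
      hat K) ^ n * z := by
    rw [hz, Algebra.smul_def, map_pow]
    rfl
  rw [h2, map_mul, map_pow] at hn
  have h3 : Valued.v (z : hat K) ≤ (1 : Γ₀) := z.2
  exact absurd hn (not_lt.2 (mul_le_of_le_one_right' h3))

theorem isPrecomplete [hK.v.RankOne] (a : (Valued.v : Valuation (hat K) Γ₀).valuationSubring)
    (h0 : a ≠ 0) (h : Valued.v (a : hat K) < (1 : Γ₀)) :
    IsPrecomplete (Ideal.span {a}) (Valued.v : Valuation (hat K) Γ₀).valuationSubring := by
  constructor
  intro f hf
  have ha0 : (a : hat K) ≠ 0 := fun h => h0 (Subtype.ext h)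
  have hpow : ∀ n, ((a : hat K) ^ n) ≠ 0 := fun n => pow_ne_zero n ha0
  have hf' : ∀ m n, m ≤ n → Valued.v ((f n : hat K) - (f m : hat K)) ≤
      Valued.v ((a : hat K) ^ m) := by
    intro m n hmn
    have h1 := (hf hmn).symm
    rw [SModEq.sub_mem, mem_pow_smul] at h1
    obtain ⟨z, hz⟩ := h1
    have h2 : (f n : hat K) - (f m : hat K) = (a : hat K) ^ m * z := by
      have := congrArg (fun y : (Valued.v : Valuation (hat K) Γ₀).valuationSubring =>
        (y : hat K)) hz
      simpa using this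
    rw [h2, map_mul]
    have h3 : Valued.v (z : hat K) ≤ (1 : Γ₀) := z.2
    exact mul_le_of_le_one_right' h3
  have hcau : CauchySeq (fun n => (f n : hat K)) := by
    rw [(Valued.hasBasis_uniformity (hat K) Γ₀).cauchySeq_iff']
    intro γ _
    obtain ⟨y, hy⟩ := MonoidWithZeroHom.ValueGroup₀.restrict₀_surjective
      (.ofClass (Valued.valuedCompletion (K := K)).v) γ.1
    have hy0 : y ≠ 0 := by
      rintro rfl
      apply γ.ne_zero
      rw [← hy]
      simp
    obtain ⟨N, hN⟩ := arch' (a : hat K) y h hy0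
    refine ⟨N, fun n hn => ?_⟩
    simp only [Set.mem_ofPred_eq]
    rw [← hy, ← Valuation.restrict_def, Valuation.restrict_lt_iff, Valuation.map_sub_swap]
    refine lt_of_le_of_lt (hf' N n hn) ?_
    rw [map_pow]
    exact hN
  obtain ⟨L, hL⟩ := cauchySeq_tendsto_of_complete hcau
  have hLn : ∀ n, Valued.v (L - (f n : hat K)) ≤ Valued.v ((a : hat K) ^ n) := by
    intro n
    have hcl := isClosed_le (F := hat K) (f n : hat K) ((a : hat K) ^ n)
    refine hcl.mem_of_tendsto hL ?_
    filter_upwards [Filter.eventually_ge_atTop n] with m hm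
    exact hf' n m hm
  have hLmem : L ∈ (Valued.v : Valuation (hat K) Γ₀).valuationSubring := by
    rw [Valuation.mem_valuationSubring_iff]
    have h1 := hLn 0
    rw [pow_zero, map_one] at h1
    have h2 : L = (L - (f 0 : hat K)) + f 0 := by ring
    rw [h2]
    exact Valuation.map_add_le _ h1 (f 0).2
  refine ⟨⟨L, hLmem⟩, fun n => ?_⟩
  rw [SModEq.comm, SModEq.sub_mem, mem_pow_smul]
  have h3 : (L - (f n : hat K)) / (a : hat K) ^ n ∈
      (Valued.v : Valuation (hat K) Γ₀).valuationSubring := by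
    rw [Valuation.mem_valuationSubring_iff, map_div₀]
    exact div_le_one_of_le₀ (hLn n) (zero_le)
  refine ⟨⟨_, h3⟩, ?_⟩
  apply Subtype.ext
  change L - (f n : hat K) = (a : hat K) ^ n * ((L - (f n : hat K)) / (a : hat K) ^ n)
  rw [mul_div_cancel₀ _ (hpow n)]

theorem isAdicComplete [hK.v.RankOne] (a : (Valued.v : Valuation (hat K) Γ₀).valuationSubring)
    (h0 : a ≠ 0) (h : Valued.v (a : hat K) < (1 : Γ₀)) :
    IsAdicComplete (Ideal.span {a}) (Valued.v : Valuation (hat K) Γ₀).valuationSubring where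
  toIsHausdorff := isHausdorff a h
  toIsPrecomplete := isPrecomplete a h0 h

theorem nil [hK.v.RankOne] (a : (Valued.v : Valuation (hat K) Γ₀).valuationSubring)
    (h0 : a ≠ 0) (x : (Valued.v : Valuation (hat K) Γ₀).valuationSubring)
    (hx : x ∈ IsLocalRing.maximalIdeal (Valued.v : Valuation (hat K) Γ₀).valuationSubring) :
    ∃ n : ℕ, a ∣ x ^ n := by
  have ha0 : (a : hat K) ≠ 0 := fun h => h0 (Subtype.ext h)
  have hx1 : Valued.v (x : hat K) < (1 : Γ₀) := by
    have := (ValuationSubring.valuation_lt_one_iff _ x).1 hx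
    have h2 := (Valuation.isEquiv_valuation_valuationSubring
      (Valued.v : Valuation (hat K) Γ₀)).lt_one_iff_lt_one (x := (x : hat K))
    exact h2.2 this
  obtain ⟨n, hn⟩ := arch' (x : hat K) (a : hat K) hx1 ha0
  refine ⟨n, ?_⟩
  have h3 : (x : hat K) ^ n / (a : hat K) ∈
      (Valued.v : Valuation (hat K) Γ₀).valuationSubring := by
    rw [Valuation.mem_valuationSubring_iff, map_div₀, map_pow]
    exact div_le_one_of_le₀ hn.le (zero_le)
  refine ⟨⟨_, h3⟩, ?_⟩
  apply Subtype.ext
  change (x : hat K) ^ n = (a : hat K) * ((x : hat K) ^ n / (a : hat K))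
  rw [mul_div_cancel₀ _ ha0]

theorem isLocalization_away [hK.v.RankOne]
    (a : (Valued.v : Valuation (hat K) Γ₀).valuationSubring)
    (h0 : a ≠ 0) (h : Valued.v (a : hat K) < (1 : Γ₀)) :
    IsLocalization.Away a (hat K) := by
  have ha0 : (a : hat K) ≠ 0 := fun h => h0 (Subtype.ext h)
  refine { map_units := ?_, surj := ?_, exists_of_eq := ?_ }
  · rintro ⟨_, n, rfl⟩
    rw [isUnit_iff_ne_zero]
    exact pow_ne_zero n ha0
  · intro z
    by_cases hz : z = 0
    · exact ⟨⟨0, 1⟩, by simp [hz]⟩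
    · obtain ⟨n, hn⟩ := arch' (a : hat K) z⁻¹ h (inv_ne_zero hz)
      have h3 : z * (a : hat K) ^ n ∈ (Valued.v : Valuation (hat K) Γ₀).valuationSubring := by
        rw [Valuation.mem_valuationSubring_iff, map_mul, map_pow]
        rw [map_inv₀] at hn
        have hz' : Valued.v z ≠ (0 : Γ₀) := by
          rw [Ne, map_eq_zero]; exact hz
        calc Valued.v z * Valued.v (a : hat K) ^ n ≤ Valued.v z * (Valued.v z)⁻¹ :=
              mul_le_mul_right hn.le _
          _ = 1 := mul_inv_cancel₀ hz'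
      exact ⟨⟨⟨_, h3⟩, ⟨a ^ n, n, rfl⟩⟩, rfl⟩
  · intro x y hxy
    exact ⟨1, by rw [Subtype.ext hxy]⟩

/-- The map on valuation rings from a valued field to its completion. -/
noncomputable def ι : hK.v.valuationSubring →+*
    (Valued.v : Valuation (hat K) Γ₀).valuationSubring :=
  (Completion.coeRingHom (α := K)).restrict hK.v.valuationSubring
    (Valued.v : Valuation (hat K) Γ₀).valuationSubring (fun x hx => by
      change Valued.v (x : hat K) ≤ (1 : Γ₀)
      rw [Valued.valuedCompletion_apply]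
      exact hx)

theorem ι_coe (x : hK.v.valuationSubring) : ((ι x : (Valued.v : Valuation (hat K) Γ₀).valuationSubring) : hat K) =
    ((x : K) : hat K) := rfl

theorem ι_injective : Function.Injective (ι (K := K) (Γ₀ := Γ₀)) := by
  intro x y hxy
  have h := congrArg (fun z : (Valued.v : Valuation (hat K) Γ₀).valuationSubring => (z : hat K)) hxy
  simp only [ι_coe] at h
  exact Subtype.ext ((Completion.coe_inj).1 h)

theorem decomp (a : hK.v.valuationSubring) (h0 : a ≠ 0)
    (x : (Valued.v : Valuation (hat K) Γ₀).valuationSubring) :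
    ∃ (y : hK.v.valuationSubring) (z : (Valued.v : Valuation (hat K) Γ₀).valuationSubring),
      x = ι y + ι a * z := by
  have ha0 : (a : K) ≠ 0 := fun h => h0 (Subtype.ext h)
  have ha0' : (((a : K)) : hat K) ≠ 0 := by
    intro h
    exact ha0 ((Completion.coe_inj).1 (by rw [h, Completion.coe_zero]))
  obtain ⟨y, hy⟩ := dense (x : hat K) (a : K) ha0
  have hle : Valued.v ((x : hat K) - (y : hat K)) ≤ (1 : Γ₀) := hy.trans a.2
  have hymem : y ∈ hK.v.valuationSubring := by
    rw [Valuation.mem_valuationSubring_iff, ← Valued.valuedCompletion_apply]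
    have h2 : (y : hat K) = (x : hat K) - ((x : hat K) - (y : hat K)) := by ring
    rw [h2]
    exact Valuation.map_sub_le _ x.2 hle
  have h3 : ((x : hat K) - (y : hat K)) / (((a : K)) : hat K) ∈
      (Valued.v : Valuation (hat K) Γ₀).valuationSubring := by
    rw [Valuation.mem_valuationSubring_iff, map_div₀, Valued.valuedCompletion_apply]
    exact div_le_one_of_le₀ hy (zero_le)
  refine ⟨⟨y, hymem⟩, ⟨_, h3⟩, ?_⟩
  apply Subtype.ext
  change (x : hat K) = (y : hat K) + (((a : K)) : hat K) *
    (((x : hat K) - (y : hat K)) / (((a : K)) : hat K))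
  rw [mul_div_cancel₀ _ ha0']
  ring

theorem dvd_of_ι (a : hK.v.valuationSubring) (h0 : a ≠ 0) (y : hK.v.valuationSubring)
    (z : (Valued.v : Valuation (hat K) Γ₀).valuationSubring) (h : ι y = ι a * z) :
    ∃ y' : hK.v.valuationSubring, y = a * y' := by
  have ha0 : (a : K) ≠ 0 := fun h => h0 (Subtype.ext h)
  have h1 : ((y : K) : hat K) = ((a : K) : hat K) * z := by
    have := congrArg (fun z : (Valued.v : Valuation (hat K) Γ₀).valuationSubring => (z : hat K)) h
    simpa [ι_coe] using this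
  have h2 : Valued.v (y : K) ≤ Valued.v (a : K) := by
    rw [← Valued.valuedCompletion_apply (y : K), ← Valued.valuedCompletion_apply (a : K), h1,
      map_mul]
    exact mul_le_of_le_one_right' z.2
  have h3 : (y : K) / (a : K) ∈ hK.v.valuationSubring := by
    rw [Valuation.mem_valuationSubring_iff, map_div₀]
    exact div_le_one_of_le₀ h2 (zero_le)
  refine ⟨⟨_, h3⟩, ?_⟩
  apply Subtype.ext
  change (y : K) = (a : K) * ((y : K) / (a : K))
  rw [mul_div_cancel₀ _ ha0]

end Valued

end K87.ValuedCompl
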