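import Groth.Agent.CAlg.K87.ValuedCompl
import Groth.Agent.CAlg.K87.CompleteEtale
import Groth.Agent.CAlg.K87.EtaleGlue
import Mathlib.RingTheory.Etale.Field
import Mathlib.RingTheory.Localization.BaseChange
import Mathlib.RingTheory.Flat.FaithfullyFlat.Algebra

/-!
Rank one valued fields: étale valuation rings and completion.
-/

set_option autoImplicit false
universe u
open UniformSpace
open scoped TensorProduct

namespace K87.ValuedEtale

section Field

variable {A B K L : Type u} [CommRing A] [IsDomain A] [ValuationRing A] [CommRing B] [IsDomain B]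
  [ValuationRing B] [Algebra A B] [Field K] [Field L] [Algebra A K] [IsFractionRing A K]
  [Algebra B L] [IsFractionRing B L] [Algebra K L] [Algebra A L] [IsScalarTower A K L]
  [IsScalarTower A B L] [FaithfulSMul A B] [Algebra.IsAlgebraic A B]

variable (A B K L) in
theorem isPushout : Algebra.IsPushout A K B L := by
  have h1 := K87.EtaleGlue.isLocalization_algebraMapSubmonoid (A := A) (B := B) (⊥ : Ideal B)
    (Localization.AtPrime (⊥ : Ideal B))
  have hcomap : (⊥ : Ideal B).comap (algebraMap A B) = ⊥ :=
    RingHom.injective_iff_ker_eq_bot _ |>.1 (FaithfulSMul.algebraMap_injective A B)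
  have hM : ((⊥ : Ideal B).comap (algebraMap A B)).primeCompl = nonZeroDivisors A := by
    ext x
    rw [mem_nonZeroDivisors_iff_ne_zero]
    change x ∉ (⊥ : Ideal B).comap (algebraMap A B) ↔ _
    rw [hcomap]
    simp
  have hN : (⊥ : Ideal B).primeCompl = nonZeroDivisors B := by
    ext x
    rw [mem_nonZeroDivisors_iff_ne_zero]
    change x ∉ (⊥ : Ideal B) ↔ _
    simp
  have hL : IsLocalization.AtPrime L (⊥ : Ideal B) := by
    change IsLocalization (⊥ : Ideal B).primeCompl L
    rw [hN]; infer_instance
  have h2 := K87.EtaleGlue.isLocalization_algebraMapSubmonoid (A := A) (B := B) (⊥ : Ideal B) L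
  rw [hM] at h2
  have h3 : Algebra.IsPushout A B K L :=
    Algebra.isPushout_of_isLocalization (nonZeroDivisors A) _ _ _
  exact h3.symm

variable (A B K L) in
theorem isSeparable_of_etale [Algebra.Etale A B] : Algebra.IsSeparable K L := by
  have hp := isPushout A B K L
  have h1 : Algebra.Etale K (K ⊗[A] B) := inferInstance
  have h2 : Algebra.Etale K L := Algebra.Etale.of_equiv (Algebra.IsPushout.equiv A K B L)
  exact Algebra.FormallyUnramified.isSeparable K L

variable (A B K L) in
theorem etale_tensor [Module.Finite K L] [Algebra.IsSeparable K L] (K' : Type u) [Field K']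
    [Algebra K K'] [Algebra A K'] [IsScalarTower A K K'] : Algebra.Etale K' (K' ⊗[A] B) := by
  have hp := isPushout A B K L
  have h0 : Algebra.FormallyEtale K L := Algebra.FormallyEtale.of_isSeparable K L
  have h1 : Algebra.FinitePresentation K L := Algebra.FinitePresentation.of_finiteType.1 inferInstance
  have h2 : Algebra.Etale K L := { formallyEtale := h0, finitePresentation := h1 }
  have h3 : Algebra.Etale K (K ⊗[A] B) :=
    Algebra.Etale.of_equiv (Algebra.IsPushout.equiv A K B L).symm
  have h4 : Algebra.Etale K' (K' ⊗[K] (K ⊗[A] B)) := inferInstance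
  exact Algebra.Etale.of_equiv (Algebra.TensorProduct.cancelBaseChange A K K' K' B)

end Field

section Ext

variable {K L Γ₀ Γ₁ : Type u} [Field K] [Field L] [Algebra K L]
    [LinearOrderedCommGroupWithZero Γ₀] [LinearOrderedCommGroupWithZero Γ₁]
    [hK : Valued K Γ₀] [hL : Valued L Γ₁] [hK.v.HasExtension hL.v]
    (hc : Continuous (algebraMap K L))

set_option quotPrecheck false
local notation "K°" => (Valued.v : Valuation K Γ₀).valuationSubring
local notation "L°" => (Valued.v : Valuation L Γ₁).valuationSubring
local notation "K^°" => (Valued.v : Valuation (Completion K) Γ₀).valuationSubring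
local notation "L^°" => (Valued.v : Valuation (Completion L) Γ₁).valuationSubring

theorem map_mem (x : Completion K) (hx : x ∈ K^°) :
    Completion.mapRingHom (algebraMap K L) hc x ∈ L^° := by
  set f := Completion.mapRingHom (algebraMap K L) hc with hf
  have hfc : Continuous f := Completion.continuous_map
  have h1 := K87.ValuedCompl.isOpen_le x (1 : Completion K) one_ne_zero
  have h2 := (K87.ValuedCompl.isOpen_le (f x) (1 : Completion L) one_ne_zero).preimage hfc
  obtain ⟨y, hy1, hy2⟩ := Completion.denseRange_coe.exists_mem_open (h1.inter h2)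
    ⟨x, by simp, by simp⟩
  simp only [Set.mem_ofPred_eq, Set.mem_preimage, map_one] at hy1 hy2
  have h3 : Valued.v (y : K) ≤ (1 : Γ₀) := by
    rw [← Valued.valuedCompletion_apply]
    have h4 : (y : Completion K) = ((y : Completion K) - x) + x := by ring
    rw [h4]
    exact Valuation.map_add_le _ hy1 hx
  have h5 : Valued.v (algebraMap K L y) ≤ (1 : Γ₁) :=
    (Valuation.HasExtension.val_map_le_one_iff hK.v hL.v y).2 h3
  rw [Valuation.mem_valuationSubring_iff]
  have h6 : f x = (algebraMap K L y : Completion L) - (f y - f x) := by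
    rw [hf, Completion.mapRingHom_coe]
    ring
  rw [h6]
  refine Valuation.map_sub_le _ ?_ hy2
  rw [Valued.valuedCompletion_apply]
  exact h5

/-- The map induced on valuation rings of completions. -/
noncomputable def ψ₀ : K^° →+* L^° :=
  (Completion.mapRingHom (algebraMap K L) hc).restrict K^° L^° (map_mem hc)

theorem ψ₀_coe (x : K^°) : (ψ₀ hc x : Completion L) =
    Completion.mapRingHom (algebraMap K L) hc (x : Completion K) := rfl

theorem main [FiniteDimensional K L] [hK.v.RankOne] [hL.v.RankOne] :
    Algebra.Etale K° L° ↔ (Algebra.IsSeparable K L ∧ (ψ₀ hc).Etale) := by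
  have hinj : Function.Injective (algebraMap K° L°) := by
    intro x y hxy
    have h := congrArg (fun z : L° => (z : L)) hxy
    exact Subtype.ext ((algebraMap K L).injective h)
  have : FaithfulSMul K° L° := (faithfulSMul_iff_algebraMap_injective _ _).2 hinj
  have hAL : Algebra.IsAlgebraic K° L := by
    constructor
    intro x
    have hx : IsAlgebraic K x := Algebra.IsAlgebraic.isAlgebraic x
    exact (IsFractionRing.isAlgebraic_iff K° K L).2 hx
  have halg : Algebra.IsAlgebraic K° L° := by
    constructor
    intro x
    have h1 : IsAlgebraic K° (algebraMap L° L x) :=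
      Algebra.IsAlgebraic.isAlgebraic _
    exact (isAlgebraic_algebraMap_iff (IsFractionRing.injective L° L)).1 h1
  obtain ⟨r, hr0, hr1⟩ := K87.ValuedCompl.exists_elem hK.v
  let a : K° := ⟨r, hr1.le⟩
  have ha0 : a ≠ 0 := fun h => hr0 (congrArg (fun z : K° => (z : K)) h)
  -- algebra structures
  let _ : Algebra K° K^° := (K87.ValuedCompl.ι (K := K) (Γ₀ := Γ₀)).toAlgebra
  let _ : Algebra L° L^° := (K87.ValuedCompl.ι (K := L) (Γ₀ := Γ₁)).toAlgebra
  let _ : Algebra K^° L^° := (ψ₀ hc).toAlgebra
  let _ : Algebra K° L^° := ((ψ₀ hc).comp (K87.ValuedCompl.ι (K := K) (Γ₀ := Γ₀))).toAlgebra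
  have ht1 : IsScalarTower K° K^° L^° := IsScalarTower.of_algebraMap_eq' rfl
  have ht2 : IsScalarTower K° L° L^° := by
    apply IsScalarTower.of_algebraMap_eq
    intro x
    apply Subtype.ext
    change Completion.mapRingHom (algebraMap K L) hc ((x : K) : Completion K) =
      ((algebraMap K L (x : K) : L) : Completion L)
    rw [Completion.mapRingHom_coe]
  have hmapa : algebraMap K° L° a ≠ 0 := by
    rw [Ne, FaithfulSMul.algebraMap_eq_zero_iff]; exact ha0
  have hd1 : ∀ x : K^°, ∃ (y : K°) (z : K^°),
      x = algebraMap K° K^° y + algebraMap K° K^° a * z :=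
    fun x => K87.ValuedCompl.decomp a ha0 x
  have hd2 : ∀ x : L^°, ∃ (y : L°) (z : L^°),
      x = algebraMap L° L^° y + algebraMap K° L^° a * z := by
    intro x
    rw [IsScalarTower.algebraMap_apply K° L° L^°]
    exact K87.ValuedCompl.decomp (algebraMap K° L° a) hmapa x
  have hdc : ∀ (y : L°) (z : L^°), algebraMap L° L^° y = algebraMap K° L^° a * z →
      ∃ y' : L°, y = algebraMap K° L° a * y' := by
    intro y z h
    rw [IsScalarTower.algebraMap_apply K° L° L^°] at h
    exact K87.ValuedCompl.dvd_of_ι _ hmapa y z h
  have hinjL : Function.Injective (algebraMap L° L^°) := K87.ValuedCompl.ι_injective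
  have hinjK : Function.Injective (algebraMap K° K^°) := K87.ValuedCompl.ι_injective
  have ha' : ∀ z : L^°, algebraMap K° L^° a * z = 0 → z = 0 := by
    intro z hz
    refine (mul_eq_zero.1 hz).resolve_left ?_
    rw [IsScalarTower.algebraMap_apply K° L° L^°]
    intro h
    exact hmapa (hinjL (by rw [h, map_zero]))
  have hva : Valued.v ((algebraMap K° K^° a : K^°) : Completion K) < (1 : Γ₀) := by
    change Valued.v ((r : K) : Completion K) < (1 : Γ₀)
    rw [Valued.valuedCompletion_apply]
    exact hr1
  have hva0 : algebraMap K° K^° a ≠ 0 := fun h => ha0 (hinjK (by rw [h, map_zero]))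
  have hvaL : Valued.v ((algebraMap K° L^° a : L^°) : Completion L) < (1 : Γ₁) := by
    have h1 : ((algebraMap K° L^° a : L^°) : Completion L) =
        ((algebraMap K L r : L) : Completion L) := by
      change Completion.mapRingHom (algebraMap K L) hc ((r : K) : Completion K) = _
      rw [Completion.mapRingHom_coe]
    rw [h1, Valued.valuedCompletion_apply]
    exact (Valuation.HasExtension.val_map_lt_one_iff hK.v hL.v r).2 hr1
  have haJ : algebraMap K° K^° a ∈ IsLocalRing.maximalIdeal K^° := by
    rw [ValuationSubring.valuation_lt_one_iff]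
    exact (Valuation.isEquiv_valuation_valuationSubring
      (Valued.v : Valuation (Completion K) Γ₀)).lt_one_iff_lt_one.1 hva
  have hnil : ∀ x ∈ IsLocalRing.maximalIdeal K^°, ∃ n : ℕ, algebraMap K° K^° a ∣ x ^ n :=
    fun x hx => K87.ValuedCompl.nil _ hva0 x hx
  have hcompl : IsAdicComplete (Ideal.span {algebraMap K° K^° a}) K^° :=
    K87.ValuedCompl.isAdicComplete _ hva0 hva
  have hhaus : IsHausdorff (Ideal.span {algebraMap K° K^° a}) L^° :=
    K87.ValuedCompl.isHausdorff _ (by
      rw [← IsScalarTower.algebraMap_apply K° K^° L^°]; exact hvaL)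
  have haway : IsLocalization.Away (algebraMap K° K^° a) (Completion K) :=
    K87.ValuedCompl.isLocalization_away _ hva0 hva
  have ht3 : IsScalarTower K° K^° (Completion K) := IsScalarTower.of_algebraMap_eq' rfl
  have hinjK' : Function.Injective (algebraMap K^° (Completion K)) := Subtype.val_injective
  have hflat : Module.Flat K° L° := K87.EtaleGlue.flat
  have hiff : (ψ₀ hc).Etale ↔ Algebra.Etale K^° L^° := Iff.rfl
  rw [hiff]
  constructor
  · intro het
    refine ⟨isSeparable_of_etale K° L° K L, ?_⟩
    exact K87.CompleteEtale.forward (A := K°) (B := L°) (A' := K^°) (B' := L^°) a hd1 hd2 hdc ha'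
      haJ hnil (Completion K) hinjK'
  · rintro ⟨hsep, het⟩
    have hff : FaithfulSMul K° K^° := (faithfulSMul_iff_algebraMap_injective _ _).2 hinjK
    have hfl : Module.Flat K° K^° := K87.EtaleGlue.flat
    have hlocal : IsLocalHom (algebraMap K° K^°) := by
      constructor
      intro x hx
      have hx0 : (x : K) ≠ 0 := by
        intro h0
        have : x = 0 := Subtype.ext h0
        rw [this, map_zero] at hx
        exact not_isUnit_zero hx
      obtain ⟨y, hy⟩ := hx.exists_right_inv
      have h1 : ((x : K) : Completion K) * (y : Completion K) = 1 :=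
        congrArg (fun z : K^° => (z : Completion K)) hy
      have h2 : Valued.v (x : K) * Valued.v (y : Completion K) = (1 : Γ₀) := by
        rw [← Valued.valuedCompletion_apply (x : K), ← map_mul, h1, map_one]
      have h3 : Valued.v (x : K) = (1 : Γ₀) := by
        apply le_antisymm x.2
        rw [← h2]
        exact mul_le_of_le_one_right' y.2
      have h4 : (x : K)⁻¹ ∈ K° := by
        rw [Valuation.mem_valuationSubring_iff, map_inv₀, h3, inv_one]
      exact IsUnit.of_mul_eq_one ⟨_, h4⟩ (Subtype.ext (mul_inv_cancel₀ hx0))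
    have hffl : Module.FaithfullyFlat K° K^° := Module.FaithfullyFlat.of_flat_of_isLocalHom
    have ht4 : IsScalarTower K° K (Completion K) := IsScalarTower.of_algebraMap_eq' rfl
    have het2 : Algebra.Etale (Completion K) (Completion K ⊗[K°] L°) :=
      etale_tensor K° L° K L (Completion K)
    exact K87.CompleteEtale.backward (A := K°) (B := L°) (A' := K^°) (B' := L^°) a hd1 hd2 hdc ha'
      haJ hnil (Completion K) hinjK'

end Ext

end K87.ValuedEtale
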