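import Mathlib.LinearAlgebra.Basis.VectorSpace
import Mathlib.LinearAlgebra.FiniteDimensional.Lemmas
import Mathlib.LinearAlgebra.Dimension.Constructions
import Mathlib.Algebra.BigOperators.Intervals
import Mathlib.Order.Interval.Finset.Basic
import Mathlib.Data.Int.Interval
import Mathlib.LinearAlgebra.Dimension.Finrank
import Mathlib.LinearAlgebra.Finsupp.Span
import Mathlib.Algebra.DirectSum.Module
import Mathlib.Algebra.DirectSum.LinearMap
import Mathlib.LinearAlgebra.Dimension.DivisionRing
import Mathlib.LinearAlgebra.Dimension.Free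
import Mathlib.LinearAlgebra.DirectSum.Finite

/-!
# The weight criterion for semistability of a bilinear form with values in a vector space
-/

set_option autoImplicit false

namespace K87.WeightCrit

open Module

section Count

variable {κ : Type*} [Fintype κ] (w : κ → ℤ)

/-- number of indices of weight at most `t` -/
def cnt (t : ℤ) : ℤ := (Finset.univ.filter (fun k => w k ≤ t)).card

theorem cnt_nonneg (t : ℤ) : 0 ≤ cnt w t := Int.natCast_nonneg _

theorem sum_cnt (N : ℤ) (hN : ∀ k, -N < w k ∧ w k < N) :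
    ∑ t ∈ Finset.Ico (-N) N, cnt w t = ∑ k, (N - w k) := by
  classical
  unfold cnt
  have h1 : ∀ t : ℤ, (((Finset.univ.filter (fun k => w k ≤ t)).card : ℕ) : ℤ) =
      ∑ k, if w k ≤ t then (1 : ℤ) else 0 := by
    intro t
    rw [Finset.card_filter]
    push_cast
    rfl
  simp_rw [h1]
  rw [Finset.sum_comm]
  refine Finset.sum_congr rfl fun k _ => ?_
  rw [← Finset.sum_filter, Finset.sum_const, nsmul_eq_mul, mul_one]
  have h2 : (Finset.Ico (-N) N).filter (fun t => w k ≤ t) = Finset.Ico (w k) N := by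
    ext t
    simp only [Finset.mem_filter, Finset.mem_Ico]
    have := hN k
    omega
  rw [h2, Int.card_Ico]
  have := hN k
  omega

theorem exists_bound : ∃ N : ℤ, 1 ≤ N ∧ ∀ k, -N < w k ∧ w k < N := by
  refine ⟨1 + ∑ k, |w k|, ?_, fun k => ?_⟩
  · have : 0 ≤ ∑ k, |w k| := Finset.sum_nonneg fun _ _ => abs_nonneg _
    omega
  · have h1 : |w k| ≤ ∑ k, |w k| :=
      Finset.single_le_sum (f := fun k => |w k|) (fun _ _ => abs_nonneg _) (Finset.mem_univ k)
    have h2 := neg_abs_le (w k)
    have h3 := le_abs_self (w k)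
    omega

theorem cnt_eq_zero {t : ℤ} (h : ∀ k, t < w k) : cnt w t = 0 := by
  unfold cnt
  rw [Finset.filter_false_of_mem]
  · simp
  · intro k _
    have := h k
    omega

/-- The semistable count. -/
theorem count_ss (hκ : 0 < Fintype.card κ) (hw : ∑ k, w k = 0)
    (h : ∀ t : ℤ, cnt w t + cnt w (-t) ≤ Fintype.card κ) : False := by
  obtain ⟨N, hN1, hN⟩ := exists_bound w
  have h1 := sum_cnt w N hN
  rw [Finset.sum_sub_distrib, hw, sub_zero, Finset.sum_const, nsmul_eq_mul, Finset.card_univ] at h1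
  have h2 : Finset.Ico (-N) N = insert (-N) (Finset.Ioo (-N) N) := by
    ext t
    simp only [Finset.mem_Ico, Finset.mem_insert, Finset.mem_Ioo]
    omega
  rw [h2, Finset.sum_insert (by simp), cnt_eq_zero w (fun k => (hN k).1), zero_add] at h1
  have h3 : ∑ t ∈ Finset.Ioo (-N) N, cnt w (-t) = ∑ t ∈ Finset.Ioo (-N) N, cnt w t := by
    refine Finset.sum_nbij' (fun t => -t) (fun t => -t) ?_ ?_ ?_ ?_ ?_
    · intro t ht; simp only [Finset.mem_Ioo] at ht ⊢; omega
    · intro t ht; simp only [Finset.mem_Ioo] at ht ⊢; omega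
    · intro t _; simp
    · intro t _; simp
    · intro t _; rfl
  have h4 : ∑ t ∈ Finset.Ioo (-N) N, (cnt w t + cnt w (-t)) ≤
      ∑ t ∈ Finset.Ioo (-N) N, (Fintype.card κ : ℤ) := Finset.sum_le_sum fun t _ => h t
  rw [Finset.sum_add_distrib, h3, Finset.sum_const, nsmul_eq_mul, Int.card_Ioo, h1] at h4
  have h5 : (((N - -N - 1).toNat : ℕ) : ℤ) = 2 * N - 1 := by omega
  rw [h5] at h4
  have h6 : (0 : ℤ) < Fintype.card κ := by exact_mod_cast hκ
  nlinarith

/-- The stable count. -/
theorem count_s (hw : ∑ k, w k = 0) (hne : ∃ k, w k ≠ 0)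
    (h : ∀ t : ℤ, cnt w t + cnt w (-t - 1) ≤ Fintype.card κ)
    (h' : 0 < cnt w (-1) → cnt w (-1) + cnt w 0 < Fintype.card κ) : False := by
  obtain ⟨N, hN1, hN⟩ := exists_bound w
  have h1 := sum_cnt w N hN
  rw [Finset.sum_sub_distrib, hw, sub_zero, Finset.sum_const, nsmul_eq_mul, Finset.card_univ] at h1
  have h3 : ∑ t ∈ Finset.Ico (-N) N, cnt w (-t - 1) = ∑ t ∈ Finset.Ico (-N) N, cnt w t := by
    refine Finset.sum_nbij' (fun t => -t - 1) (fun t => -t - 1) ?_ ?_ ?_ ?_ ?_
    · intro t ht; simp only [Finset.mem_Ico] at ht ⊢; omega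
    · intro t ht; simp only [Finset.mem_Ico] at ht ⊢; omega
    · intro t _; simp
    · intro t _; simp
    · intro t _; rfl
  have hpos : 0 < cnt w (-1) := by
    by_contra hcon
    have h0 : cnt w (-1) = 0 := le_antisymm (not_lt.1 hcon) (cnt_nonneg w _)
    unfold cnt at h0
    have h00 : (Finset.univ.filter (fun k => w k ≤ -1)) = ∅ := by
      rw [← Finset.card_eq_zero]
      exact_mod_cast h0
    have hge : ∀ k, 0 ≤ w k := by
      intro k
      by_contra hk
      have : k ∈ Finset.univ.filter (fun k => w k ≤ -1) := by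
        simp only [Finset.mem_filter, Finset.mem_univ, true_and]
        omega
      rw [h00] at this
      simp at this
    obtain ⟨k, hk⟩ := hne
    exact hk ((Finset.sum_eq_zero_iff_of_nonneg (fun k _ => hge k)).1 hw k (Finset.mem_univ k))
  have h4 : ∑ t ∈ Finset.Ico (-N) N, (cnt w t + cnt w (-t - 1)) <
      ∑ t ∈ Finset.Ico (-N) N, (Fintype.card κ : ℤ) := by
    refine Finset.sum_lt_sum (fun t _ => h t) ⟨-1, ?_, ?_⟩
    · simp only [Finset.mem_Ico]; omega
    · have := h' hpos
      simpa using this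
  rw [Finset.sum_add_distrib, h3, Finset.sum_const, nsmul_eq_mul, Int.card_Ico, h1] at h4
  have h5 : (((N - -N).toNat : ℕ) : ℤ) = 2 * N := by omega
  rw [h5] at h4
  linarith

end Count

section Form

variable {F : Type*} [Field F] {W H : Type*} [AddCommGroup W] [Module F W] [AddCommGroup H]
  [Module F H] [FiniteDimensional F H] (q : H →ₗ[F] H →ₗ[F] W)

/-- the left orthogonal -/
def perp (V : Submodule F H) : Submodule F H := ⨅ (y : H) (_ : y ∈ V), LinearMap.ker (q.flip y)

omit [FiniteDimensional F H] in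
theorem mem_perp {V : Submodule F H} {x : H} : x ∈ perp q V ↔ ∀ y ∈ V, q x y = 0 := by
  simp [perp, Submodule.mem_iInf]

variable {κ : Type*} [Fintype κ] (b : Basis κ F H) (w : κ → ℤ)

/-- the filtration -/
def fil (t : ℤ) : Submodule F H := Submodule.span F (Set.range fun k : {k // w k ≤ t} => b k)

omit [Fintype κ] [FiniteDimensional F H] in
theorem finrank_fil [Fintype κ] (t : ℤ) : (finrank F (fil b w t) : ℤ) = cnt w t := by
  classical
  unfold fil cnt
  have h1 : LinearIndependent F (fun k : {k // w k ≤ t} => b k) :=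
    b.linearIndependent.comp _ Subtype.val_injective
  rw [finrank_span_eq_card h1, Fintype.card_subtype]

omit [Fintype κ] [FiniteDimensional F H] in
theorem fil_le_perp {s t : ℤ} (h : ∀ k l, w k ≤ s → w l ≤ t → q (b k) (b l) = 0) :
    fil b w s ≤ perp q (fil b w t) := by
  unfold fil
  rw [Submodule.span_le]
  rintro _ ⟨⟨k, hk⟩, rfl⟩
  rw [SetLike.mem_coe, mem_perp]
  intro y hy
  have h1 : Submodule.span F (Set.range fun k : {k // w k ≤ t} => b k) ≤ LinearMap.ker (q (b k)) := by
    rw [Submodule.span_le]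
    rintro _ ⟨⟨l, hl⟩, rfl⟩
    exact h k l hk hl
  exact h1 hy

omit [Fintype κ] in
theorem cnt_add_le [Fintype κ] {s t : ℤ} (hst : s ≤ t)
    (hss : ∀ V : Submodule F H, V ≠ ⊥ → (∀ x ∈ V, ∀ y ∈ V, q x y = 0) →
        finrank F V + finrank F (perp q V) ≤ finrank F H)
    (h : ∀ k l, w k ≤ t → w l ≤ s → q (b k) (b l) = 0) :
    cnt w s + cnt w t ≤ Fintype.card κ := by
  have h1 := fil_le_perp q b w h
  have h2 := Submodule.finrank_mono h1
  by_cases h0 : fil b w s = ⊥
  · have h3 : cnt w s = 0 := by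
      rw [← finrank_fil b w s, h0]; simp
    rw [h3, zero_add, ← finrank_fil b w t, ← finrank_eq_card_basis b]
    exact_mod_cast Submodule.finrank_le _
  · have hle : fil b w s ≤ fil b w t := by
      refine Submodule.span_mono ?_
      rintro _ ⟨⟨k, hk⟩, rfl⟩
      exact ⟨⟨k, hk.trans hst⟩, rfl⟩
    have h3 := hss (fil b w s) h0 (fun x hx y hy => (mem_perp q).1 (h1 (hle hx)) y hy)
    rw [← finrank_fil b w s, ← finrank_fil b w t, ← finrank_eq_card_basis b]
    have h4 : finrank F (fil b w s) + finrank F (fil b w t) ≤ finrank F H := by omega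
    exact_mod_cast h4

/-- semistable ⇒ weights -/
theorem ss_weights (hq0 : q ≠ 0)
    (hss : ∀ V : Submodule F H, V ≠ ⊥ → (∀ x ∈ V, ∀ y ∈ V, q x y = 0) →
        finrank F V + finrank F (perp q V) ≤ finrank F H)
    (hw : ∑ k, w k = 0) :
    ∃ k l, q (b k) (b l) ≠ 0 ∧ w k + w l ≤ 0 := by
  by_contra hcon
  push Not at hcon
  have hcard : 0 < Fintype.card κ := by
    rw [← finrank_eq_card_basis b]
    rw [finrank_pos_iff]
    by_contra hsub
    rw [not_nontrivial_iff_subsingleton] at hsub
    apply hq0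
    ext x y
    rw [Subsingleton.elim x 0]
    simp
  refine count_ss w hcard hw fun t => ?_
  have key : ∀ k l, w k + w l ≤ 0 → q (b k) (b l) = 0 := by
    intro k l hkl
    by_contra h
    have := hcon k l h
    omega
  rcases le_total t (-t) with ht | ht
  · exact cnt_add_le q b w ht hss fun k l hk hl => key k l (by omega)
  · rw [add_comm]
    exact cnt_add_le q b w ht hss fun k l hk hl => key k l (by omega)

/-- stable ⇒ weights -/
theorem s_weights (hs : ∀ V : Submodule F H, V ≠ ⊥ → (∀ x ∈ V, ∀ y ∈ V, q x y = 0) →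
        finrank F V + finrank F (perp q V) < finrank F H)
    (hw : ∑ k, w k = 0) (hne : ∃ k, w k ≠ 0) :
    ∃ k l, q (b k) (b l) ≠ 0 ∧ w k + w l < 0 := by
  by_contra hcon
  push Not at hcon
  have key : ∀ k l, w k + w l < 0 → q (b k) (b l) = 0 := by
    intro k l hkl
    by_contra h
    have := hcon k l h
    omega
  have hss : ∀ V : Submodule F H, V ≠ ⊥ → (∀ x ∈ V, ∀ y ∈ V, q x y = 0) →
        finrank F V + finrank F (perp q V) ≤ finrank F H := fun V h1 h2 => (hs V h1 h2).le
  refine count_s w hw hne (fun t => ?_) (fun hpos => ?_)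
  · rcases le_total t (-t - 1) with ht | ht
    · exact cnt_add_le q b w ht hss fun k l hk hl => key k l (by omega)
    · rw [add_comm]
      exact cnt_add_le q b w ht hss fun k l hk hl => key k l (by omega)
  · have h1 : fil b w 0 ≤ perp q (fil b w (-1)) :=
      fil_le_perp q b w fun k l hk hl => key k l (by omega)
    have hle : fil b w (-1) ≤ fil b w 0 := by
      refine Submodule.span_mono ?_
      rintro _ ⟨⟨k, hk⟩, rfl⟩
      exact ⟨⟨k, by omega⟩, rfl⟩
    have h0 : fil b w (-1) ≠ ⊥ := by
      intro h0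
      rw [← finrank_fil b w (-1), h0] at hpos
      simp at hpos
    have h2 := hs (fil b w (-1)) h0 (fun x hx y hy => (mem_perp q).1 (h1 (hle hx)) y hy)
    have h3 := Submodule.finrank_mono h1
    rw [← finrank_fil b w (-1), ← finrank_fil b w 0, ← finrank_eq_card_basis b]
    have h4 : finrank F (fil b w (-1)) + finrank F (fil b w 0) < finrank F H := by omega
    exact_mod_cast h4

end Form

section Internal

variable {F : Type*} [Field F] {H : Type*} [AddCommGroup H] [Module F H] [FiniteDimensional F H]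

/-- A three-step decomposition adapted to `V ≤ V'`. -/
theorem exists_decomp (V V' : Submodule F H) (hle : V ≤ V') :
    ∃ C₂ C₃ : Submodule F H, C₂ ≤ V' ∧
      finrank F V + finrank F C₂ = finrank F V' ∧
      finrank F V' + finrank F C₃ = finrank F H ∧
      DirectSum.IsInternal (![V, C₂, C₃] : Fin 3 → Submodule F H) := by
  obtain ⟨D, hD⟩ := exists_isCompl V
  obtain ⟨C₃, hC₃⟩ := exists_isCompl V'
  have h1 : V ⊔ (D ⊓ V') = V' := by
    rw [← sup_inf_assoc_of_le _ hle, hD.sup_eq_top, top_inf_eq]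
  have h2 : V ⊓ (D ⊓ V') = ⊥ := by
    rw [← inf_assoc, hD.inf_eq_bot, bot_inf_eq]
  have e1 : finrank F V + finrank F ↥(D ⊓ V') = finrank F V' := by
    have := Submodule.finrank_sup_add_finrank_inf_eq V (D ⊓ V')
    rw [h1, h2, finrank_bot, add_zero] at this
    exact this.symm
  have e2 : finrank F V' + finrank F C₃ = finrank F H := by
    have := Submodule.finrank_sup_add_finrank_inf_eq V' C₃
    rw [hC₃.sup_eq_top, hC₃.inf_eq_bot, finrank_bot, add_zero, finrank_top] at this
    exact this.symm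
  refine ⟨D ⊓ V', C₃, inf_le_right, e1, e2, ?_⟩
  let A : Fin 3 → Submodule F H := ![V, D ⊓ V', C₃]
  have hsurj : Function.Surjective (DirectSum.coeLinearMap A) := by
    rw [← LinearMap.range_eq_top, DirectSum.range_coeLinearMap, eq_top_iff, ← hC₃.sup_eq_top]
    refine sup_le ?_ (le_iSup A 2)
    rw [← h1]
    exact sup_le (le_iSup A 0) (le_iSup A 1)
  have hfin : finrank F (DirectSum (Fin 3) fun i => A i) = finrank F H := by
    rw [Module.finrank_directSum, Fin.sum_univ_three]
    change finrank F V + finrank F ↥(D ⊓ V') + finrank F C₃ = _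
    rw [e1, e2]
  exact ⟨(LinearMap.injective_iff_surjective_of_finrank_eq_finrank hfin).2 hsurj, hsurj⟩

end Internal

end K87.WeightCrit
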